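import Cfsg.Agent.HKS.CosetTwo
import Cfsg.Agent.SmallSimple.DegreeData
import Cfsg.Agent.Blocks.ExistsModular
import Cfsg.Agent.H687.Good
import Cfsg.Agent.S0886
import Cfsg.Prelude.Def_KGroupFacts
import Cfsg.Agent.H656.OverPrincipal
import Cfsg.Agent.H661.SporCount_m3
import Cfsg.Agent.Characters.Clifford
import Cfsg.Agent.Blocks.Covering
import Cfsg.Agent.SmallSimple.SelfCentSum
import Cfsg.Agent.H692.RealOver
import Cfsg.Agent.Characters.GaloisBasic
import Cfsg.Agent.H113.PSU.Rank3_m3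
import Cfsg.Agent.FastGrp
import Cfsg.Agent.Prune
set_option linter.all false

section
prune_inst 0x7ffcfefdefa9bddedfff7e3fffd9dffbf3e8cfffffdffbcbffedef9fefdf233739e5fba51de0d0ffce57e2be30b87843fb7eeeffee6fdc7ffffdfff41ffbee0ff5f7b50971df8ca40fbe0ffe03f17fca6f3ffffffffffffffffffffffffffffffffffbfeffff

-- part: H635/SporInv2
section
prune_inst 0x100021000000100000000000000000000000000000400000000000000400000000000001000001120010000000000040000000100000000000000000000000000008000000010000020010002000400000000000000000000000000000000000000000000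
set_option linter.all false
open scoped Cfsg.Agent.FastGrp

-- part: H635/SporAlpha
section
/-!
# The principal block of a group with a subgroup of index two (prime order Sylow subgroup)

`D` is a subgroup of index two of `G`, `P` a Sylow subgroup of odd prime order `p` centralized by an element outside
`D`. Then the members of the principal `p`-block restrict irreducibly to `D`.
-/

set_option autoImplicit false
set_option linter.unusedSectionVars false

namespace Cfsg.Agent.H635.Spor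

open Cfsg Cfsg.Agent.Characters.Core Cfsg.Agent.SmallSimple.DegreeData Subgroup
open Cfsg.Agent.HKS.CosetTwo (sg isIrr_sg sg_of_mem sg_of_notMem)
open scoped ComplexConjugate

universe u

section arith

/-- The condition on the degree `d` coming from a block of prime order. -/
def Ok (p l e d : ℕ) : Prop :=
  (d : ℤ) ≡ 1 [ZMOD l] ∨ (d : ℤ) ≡ -1 [ZMOD l] ∨ ((d : ℤ) ≡ e [ZMOD l] ∧ (d : ℤ) ≡ 1 [ZMOD p]) ∨
    ((d : ℤ) ≡ -e [ZMOD l] ∧ (d : ℤ) ≡ -1 [ZMOD p])

theorem dvd_sum_of {p : ℤ} {L : List ℤ} (h : ∀ z ∈ L, p ∣ z) : p ∣ L.sum := List.dvd_sum h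

theorem eq_or_neg_of_natAbs {z : ℤ} {d : ℕ} (h : z.natAbs = d) : z = d ∨ z = -d := by
  rcases Int.natAbs_eq z with h1 | h1
  · left; rw [h1, h]
  · right; rw [h1, h]

/-- **The condition.** -/
theorem ok_of {p l e d : ℕ} (hp : 1 < p) {L : List ℤ} {x : ℤ} (h1 : ∀ z ∈ L, z ≡ 1 [ZMOD l])
    (h2 : ∀ z ∈ L, (p : ℤ) ∣ z ∨ z.natAbs = d) (h3 : x ≡ e [ZMOD l]) (h4 : (p : ℤ) ∣ x ∨ x.natAbs = d)
    (h5 : 1 + L.sum = x) : Ok p l e d := by
  by_cases hz : ∃ z ∈ L, z.natAbs = d
  · obtain ⟨z, hz, hzd⟩ := hz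
    have h6 := h1 z hz
    rcases eq_or_neg_of_natAbs hzd with h7 | h7
    · left; rwa [← h7]
    · right; left
      have h8 : (d : ℤ) = -z := by rw [h7, neg_neg]
      rw [h8]
      exact h6.neg
  · push Not at hz
    have h6 : (p : ℤ) ∣ L.sum := dvd_sum_of fun z hzL => (h2 z hzL).resolve_right (hz z hzL)
    have h7 : x ≡ 1 [ZMOD p] := by
      rw [← h5]
      have := (Int.modEq_zero_iff_dvd.2 h6).add_left 1
      simpa using this
    have h8 : ¬ (p : ℤ) ∣ x := by
      intro h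
      have h9 : (1 : ℤ) ≡ 0 [ZMOD p] := h7.symm.trans (Int.modEq_zero_iff_dvd.2 h)
      have h10 := Int.modEq_zero_iff_dvd.1 h9
      have h11 := Int.le_of_dvd one_pos h10
      have : (1 : ℤ) < p := by exact_mod_cast hp
      omega
    rcases eq_or_neg_of_natAbs (h4.resolve_left h8) with h9 | h9
    · right; right; left
      rw [← h9]
      exact ⟨h3, h7⟩
    · right; right; right
      have h10 : (d : ℤ) = -x := by rw [h9, neg_neg]
      rw [h10]
      exact ⟨h3.neg, h7.neg⟩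

end arith

variable {G : Type u} [Group G] [Finite G] {D : Subgroup G} {p : ℕ} [hp : Fact p.Prime]

end Cfsg.Agent.H635.Spor
end

-- part: H635/SporExt
section
/-!
# S4834 for groups with at most two outer automorphism classes: general lemmas

* `exists_ext` : an invariant irreducible character extends to `MulAut S` when `|Out S| ≤ 2`;
* `good_of_pair` : the form of `Good p S` to be proved.
-/

set_option autoImplicit false

namespace Cfsg.Agent.H635.Spor

open Cfsg Cfsg.Agent.Characters.Core Cfsg.Agent.H687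

universe u

variable {S : Type u} [Group S]

/-- `f` is invariant under all automorphisms. -/
def AutInv (f : S → ℂ) : Prop := ∀ (φ : MulAut S) (s : S), f (φ s) = f s

theorem isCyclic_out [Finite S] (hO : Nat.card (Cfsg.Out S) ≤ 2) : IsCyclic (Cfsg.Out S) := by
  have : Finite (Cfsg.Out S) := inferInstance
  have h0 : 0 < Nat.card (Cfsg.Out S) := Nat.card_pos
  rcases (by omega : Nat.card (Cfsg.Out S) = 1 ∨ Nat.card (Cfsg.Out S) = 2) with h | h
  · have := (Nat.card_eq_one_iff_unique.1 h).1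
    infer_instance
  · have : Fact (Nat.Prime 2) := ⟨Nat.prime_two⟩
    exact isCyclic_of_prime_card h

/-- The isomorphism of `S` with `Inn S` for a centreless group. -/
noncomputable def innEquiv (hc : Subgroup.center S = ⊥) : S ≃* Cfsg.Inn S :=
  MonoidHom.ofInjective (f := (MulAut.conj : S →* MulAut S)) (by
    rw [← MonoidHom.ker_eq_bot_iff, eq_bot_iff]
    intro x hx
    rw [← hc, Subgroup.mem_center_iff]
    intro g
    have h1 : MulAut.conj x g = g := by
      rw [MonoidHom.mem_ker] at hx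
      rw [hx, MulAut.one_apply]
    rw [MulAut.conj_apply] at h1
    exact (mul_inv_eq_iff_eq_mul.1 h1).symm)

theorem innEquiv_coe (hc : Subgroup.center S = ⊥) (s : S) :
    ((innEquiv hc s : Cfsg.Inn S) : MulAut S) = MulAut.conj s := rfl

/-- **Extension.** -/
theorem exists_ext [Finite S] (hc : Subgroup.center S = ⊥) (hO : Nat.card (Cfsg.Out S) ≤ 2) {α : S → ℂ}
    (hα : IsIrrCharacter S α) (hinv : AutInv α) :
    ∃ ψ : MulAut S → ℂ, IsIrrCharacter (MulAut S) ψ ∧ ∀ s, ψ (MulAut.conj s) = α s := by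
  obtain ⟨ψ, hψ, h⟩ := S0886.result (G := MulAut S) (Cfsg.Inn S) (isCyclic_out hO)
    (α ∘ (innEquiv hc).symm) (isIrr_comp (innEquiv hc).symm.toMonoidHom (innEquiv hc).symm.surjective hα) (by
      intro g n
      obtain ⟨s, rfl⟩ := (innEquiv hc).surjective n
      have h1 : (⟨g * (innEquiv hc s : MulAut S) * g⁻¹, Subgroup.Normal.conj_mem inferInstance _
          (innEquiv hc s).2 g⟩ : Cfsg.Inn S) = innEquiv hc (g s) := by
        apply Subtype.ext
        show g * MulAut.conj s * g⁻¹ = MulAut.conj (g s)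
        ext x
        simp only [MulAut.conj_apply, map_mul, map_inv, _root_.MulAut.mul_apply, _root_.MulAut.inv_apply, _root_.MulEquiv.apply_symm_apply]
      rw [Function.comp_apply, Function.comp_apply, h1, MulEquiv.symm_apply_apply, MulEquiv.symm_apply_apply]
      exact hinv g s)
  refine ⟨ψ, hψ, fun s => ?_⟩
  have := h (innEquiv hc s)
  rw [innEquiv_coe] at this
  rw [this, Function.comp_apply, MulEquiv.symm_apply_apply]

/-- An automorphism of odd order is inner. -/
theorem mem_inn_of_odd [Finite S] (hO : Nat.card (Cfsg.Out S) ≤ 2) {φ : MulAut S} (h : Odd (orderOf φ)) :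
    φ ∈ Cfsg.Inn S := by
  rw [← QuotientGroup.eq_one_iff]
  have h1 : orderOf (φ : Cfsg.Out S) ∣ orderOf φ := orderOf_map_dvd (QuotientGroup.mk' (Cfsg.Inn S)) φ
  have h2 : orderOf (φ : Cfsg.Out S) ∣ Nat.card (Cfsg.Out S) := orderOf_dvd_natCard _
  have h0 : 0 < Nat.card (Cfsg.Out S) := Nat.card_pos
  rw [← orderOf_eq_one_iff]
  have h3 : Odd (orderOf (φ : Cfsg.Out S)) := h.of_dvd_nat h1
  have h4 := Nat.le_of_dvd h0 h2
  obtain ⟨k, hk⟩ := h3
  omega

theorem classFun_conj {f : S → ℂ} (hf : IsClassFunction S f) (g s : S) : f (g * s * g⁻¹) = f s :=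
  classFunction_apply_eq hf (isConj_iff.2 ⟨g, rfl⟩).symm

/-- **The pair.** -/
theorem good_of_pair [Finite S] (hc : Subgroup.center S = ⊥) (hO : Nat.card (Cfsg.Out S) ≤ 2) {p : ℕ}
    (hp : p.Prime) (hp2 : p ≠ 2) {α β : IrrCharacter S} (ha1 : charDegree (α : S → ℂ) ≠ 1)
    (hb1 : charDegree (β : S → ℂ) ≠ 1) (hpa : ¬ p ∣ charDegree (α : S → ℂ)) (hpb : ¬ p ∣ charDegree (β : S → ℂ))
    (hinv : AutInv (α : S → ℂ)) (hd : ¬ charDegree (β : S → ℂ) ∣ charDegree (α : S → ℂ)) : Good p S := by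
  obtain ⟨ψ, hψ, h⟩ := exists_ext hc hO α.2 hinv
  refine ⟨α, β, ha1, hb1, hpa, hpb, ⟨⟨ψ, hψ⟩, h⟩, hd, ?_⟩
  rintro φ ⟨k, hk⟩ s
  have hodd : Odd (orderOf φ) := by
    rw [hk]
    exact (hp.odd_of_ne_two hp2).pow
  obtain ⟨g, hg⟩ := mem_inn_of_odd hO hodd
  rw [← hg, MulAut.conj_apply]
  exact classFun_conj (isIrr_isClassFunction β.2) g s

end Cfsg.Agent.H635.Spor
end

-- part: H635/SporRestr
section
/-!
# Restriction of the principal block to a subgroup of index two
-/

set_option autoImplicit false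
set_option linter.unusedSectionVars false

namespace Cfsg.Agent.H635.Spor

open Cfsg Cfsg.Agent.Characters.Core Cfsg.Agent.SmallSimple.DegreeData Subgroup
open Cfsg.Agent.HKS.CosetTwo (sg isIrr_sg sg_of_mem sg_of_notMem isIrr_restrict)
open scoped ComplexConjugate

universe u

variable {G : Type u} [Group G] [Finite G] {D : Subgroup G} {p : ℕ} [hp : Fact p.Prime]
  {M : Ideal AlgInt} {P : Sylow p G} {e t : ℕ}

theorem exists_ne_one_of_card (hP : Nat.card P = p) : ∃ x : P, x ≠ 1 := by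
  have : Nontrivial P := by
    rw [← Finite.one_lt_card_iff_nontrivial, hP]
    exact hp.out.one_lt
  exact exists_ne 1

section aut

variable {S : Type u} [Group S] [Finite S]

theorem index_inn : (Cfsg.Inn S).index = Nat.card (Cfsg.Out S) := index_eq_card _

/-- The character of `S` from an irreducible character of `MulAut S`, irreducible on `Inn S`. -/
theorem exists_inv (hc : center S = ⊥) {χ : IrrCharacter (MulAut S)}
    (h : IsIrrCharacter (Cfsg.Inn S) (fun d : Cfsg.Inn S => (χ : MulAut S → ℂ) d)) :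
    ∃ α : IrrCharacter S, AutInv (α : S → ℂ) ∧ (∀ s, (α : S → ℂ) s = (χ : MulAut S → ℂ) (MulAut.conj s)) ∧
      charDegree (α : S → ℂ) = charDegree (χ : MulAut S → ℂ) := by
  have h1 := isIrr_comp (innEquiv hc).toMonoidHom (innEquiv hc).surjective h
  refine ⟨⟨_, h1⟩, ?_, fun s => rfl, ?_⟩
  · intro φ s
    show (χ : MulAut S → ℂ) (MulAut.conj (φ s)) = (χ : MulAut S → ℂ) (MulAut.conj s)
    have h2 : MulAut.conj (φ s) = φ * MulAut.conj s * φ⁻¹ := by
      ext x
      simp only [MulAut.conj_apply, map_mul, map_inv, _root_.MulAut.mul_apply, _root_.MulAut.inv_apply, _root_.MulEquiv.apply_symm_apply]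
    rw [h2]
    exact classFun_conj (isIrr_isClassFunction χ.2) φ _
  · unfold charDegree
    show ⌊((χ : MulAut S → ℂ) (MulAut.conj 1)).re⌋₊ = _
    rw [map_one]

end aut

end Cfsg.Agent.H635.Spor
end

-- part: H635/SporInv
section
/-!
# The nonexceptional characters of the principal block are invariant

`S` is a centreless group with `|Out S| ≤ 2`, `P` a Sylow subgroup of odd prime order.

* `inv_of_nonexc` : the nonexceptional characters of the principal block are invariant under all automorphisms;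
* `inv_of_alpha` : so are all members if an automorphism that is not inner centralizes `P`.
-/

set_option autoImplicit false
set_option linter.unusedSectionVars false

namespace Cfsg.Agent.H635.Spor

open Cfsg Cfsg.Agent.Characters.Core Cfsg.Agent.SmallSimple.DegreeData Subgroup
open Cfsg.Agent.HKS.CosetTwo (sg isIrr_sg sg_of_mem sg_of_notMem isIrr_restrict)
open scoped ComplexConjugate

universe u

variable {S : Type u} [Group S] [Finite S] {p : ℕ} [hp : Fact p.Prime] {M : Ideal AlgInt} {P : Sylow p S} {e t : ℕ}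

theorem exists_conj_mem (P : Sylow p S) {z : S} (hz : orderOf z = p) : ∃ g : S, g * z * g⁻¹ ∈ P := by
  have h1 : IsPGroup p (zpowers z) := IsPGroup.of_card (n := 1) (by rw [Nat.card_zpowers, hz, pow_one])
  obtain ⟨Q, hQ⟩ := h1.exists_le_sylow
  obtain ⟨g, hg⟩ := MulAction.exists_smul_eq S Q P
  refine ⟨g, ?_⟩
  rw [← hg]
  have h2 : z ∈ (Q : Subgroup S) := hQ (mem_zpowers z)
  show g * z * g⁻¹ ∈ (g • Q : Sylow p S)
  rw [← SetLike.mem_coe, Sylow.coe_smul]
  exact ⟨z, h2, rfl⟩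

theorem ne_one_of_orderOf {G : Type*} [Group G] {z : G} (hz : orderOf z = p) : z ≠ 1 := by
  rintro rfl
  rw [orderOf_one] at hz
  exact hp.out.one_lt.ne hz

theorem val_of_order (B : BlockData p M P e t) {χ : IrrCharacter S} (hχ : χ ∈ B.one :: B.l) {z : S}
    (hz : orderOf z = p) : (χ : S → ℂ) z = B.ε χ := by
  obtain ⟨g, hg⟩ := exists_conj_mem P hz
  rw [← classFun_conj (isIrr_isClassFunction χ.2) g z]
  refine B.val' hχ hg ?_
  intro h
  exact ne_one_of_orderOf hz (conj_eq_one_iff.1 h)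

theorem sum_hom_off_one {G : Type u} [Group G] [Finite G] {P : Subgroup G} [Fintype P] [DecidableEq P]
    (T : Finset (P →* ℂˣ)) (h1 : (1 : P →* ℂˣ) ∉ T) :
    ∑ x ∈ Finset.univ.erase (1 : P), ∑ l ∈ T, ((l x : ℂˣ) : ℂ) = -(T.card : ℂ) := by
  classical
  have h2 : ∑ x : P, ∑ l ∈ T, ((l x : ℂˣ) : ℂ) = 0 := by
    rw [Finset.sum_comm]
    refine Finset.sum_eq_zero fun l hl => ?_
    have hne : ((Units.coeHom ℂ).comp l) ≠ 1 := by
      intro h
      apply h1
      have : l = 1 := by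
        ext x
        have := DFunLike.congr_fun h x
        simpa only [_root_.MonoidHom.one_apply, _root_.Units.val_one, _root_.Units.val_eq_one, _root_.MonoidHom.coe_comp, _root_.Function.comp_apply, _root_.Units.coeHom_apply] using this
      rwa [← this]
    exact sum_hom_units_eq_zero _ hne
  rw [← Finset.add_sum_erase _ _ (Finset.mem_univ (1 : P))] at h2
  simp only [map_one, Units.val_one, Finset.sum_const, nsmul_eq_mul, mul_one] at h2
  linear_combination h2

/-- A member of the principal block cannot take the value `2 ε` on all elements of order `p`. -/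
theorem not_two_val {G : Type u} [Group G] [Finite G] {P : Sylow p G} (B : BlockData p M P e t)
    (hP : Nat.card P = p) (ht : e * t = p - 1) {ψ : IrrCharacter G} (hψ : ψ ∈ principalBlock M G) {ε : ℤ}
    (hε : ε = 1 ∨ ε = -1) (h : ∀ x ∈ P, x ≠ 1 → (ψ : G → ℂ) x = 2 * ε) : False := by
  classical
  have := Fintype.ofFinite P
  rcases (B.mem_block ψ).1 hψ with h1 | h1
  · obtain ⟨x, hx⟩ := exists_ne_one_of_card hP
    have hx' : (x : G) ≠ 1 := fun h => hx (Subtype.ext h)
    have h2 := h x x.2 hx'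
    rw [B.val' h1 x.2 hx'] at h2
    have h3 : B.ε ψ = 2 * ε := by exact_mod_cast h2
    rcases B.ε_mem ψ h1 with h4 | h4 <;> rcases hε with h5 | h5 <;> rw [h4, h5] at h3 <;> norm_num at h3
  · have h2 := sum_hom_off_one (P := (P : Subgroup G)) (B.S ψ) (B.one_notMem_S ψ h1)
    have h3 : ∀ x ∈ Finset.univ.erase (1 : (P : Subgroup G)), ∑ l ∈ B.S ψ, ((l x : ℂˣ) : ℂ) = B.d * (2 * ε) := by
      intro x hx
      have hx1 := Finset.ne_of_mem_erase hx
      have h4 := B.val_X' h1 x hx1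
      have h5 := h x x.2 (fun h => hx1 (Subtype.ext h))
      rw [h5] at h4
      rw [h4]
      rcases B.d_mem with h6 | h6 <;> rw [h6] <;> push_cast <;> ring
    rw [Finset.sum_congr rfl h3, Finset.sum_const, Finset.card_erase_of_mem (Finset.mem_univ _), Finset.card_univ,
      ← Nat.card_eq_fintype_card, B.card_S ψ h1, hP, nsmul_eq_mul] at h2
    have h6 : ((p - 1 : ℕ) : ℤ) * (B.d * (2 * ε)) = -(e : ℤ) := by exact_mod_cast h2
    have h7 : e ≤ p - 1 := by
      rw [← ht]
      have ht0 : t ≠ 0 := by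
        rintro rfl
        have := hp.out.one_lt
        omega
      exact Nat.le_mul_of_pos_right _ (Nat.pos_of_ne_zero ht0)
    have h8 : 0 < p - 1 := by have := hp.out.one_lt; omega
    have h9 : (e : ℤ) ≤ ((p - 1 : ℕ) : ℤ) := by exact_mod_cast h7
    have h10 : (0 : ℤ) < ((p - 1 : ℕ) : ℤ) := by exact_mod_cast h8
    have h11 : (0 : ℤ) ≤ (e : ℤ) := Int.natCast_nonneg e
    rcases B.d_mem with h4 | h4 <;> rcases hε with h5 | h5 <;> rw [h4, h5] at h6 <;> linarith only [h6, h8, h7]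

end Cfsg.Agent.H635.Spor
end

-- part: H635/SporInv2
section
/-!
# Invariance of members of the principal block under automorphisms
-/

set_option autoImplicit false
set_option linter.unusedSectionVars false

namespace Cfsg.Agent.H635.Spor

open Cfsg Cfsg.Agent.Characters.Core Cfsg.Agent.SmallSimple.DegreeData Subgroup
open Cfsg.Agent.HKS.CosetTwo (sg isIrr_sg sg_of_mem sg_of_notMem isIrr_restrict)
open scoped ComplexConjugate

universe u

variable {S : Type u} [Group S] [Finite S] {p : ℕ} [hp : Fact p.Prime] {M : Ideal AlgInt} {P : Sylow p S} {e t : ℕ}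

theorem card_mulAut (hc : center S = ⊥) : Nat.card (MulAut S) = Nat.card S * Nat.card (Cfsg.Out S) := by
  rw [Nat.card_congr (innEquiv hc).toEquiv, ← index_inn, card_mul_index]

theorem factorization_mulAut (hc : center S = ⊥) (hO : Nat.card (Cfsg.Out S) ≤ 2) (hp2 : p ≠ 2) :
    (Nat.card (MulAut S)).factorization p = (Nat.card S).factorization p := by
  have h0 : 0 < Nat.card (Cfsg.Out S) := Nat.card_pos
  rw [card_mulAut hc, Nat.factorization_mul Nat.card_pos.ne' h0.ne', Finsupp.add_apply]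
  have h1 : (Nat.card (Cfsg.Out S)).factorization p = 0 := by
    apply Nat.factorization_eq_zero_of_not_dvd
    intro h
    have := Nat.le_of_dvd h0 h
    have := hp.out.two_le
    omega
  rw [h1, add_zero]

/-- The image of a Sylow subgroup in the automorphism group. -/
noncomputable def sylA (hc : center S = ⊥) (hO : Nat.card (Cfsg.Out S) ≤ 2) (hp2 : p ≠ 2) (P : Sylow p S) :
    Sylow p (MulAut S) :=
  Sylow.ofCard ((P : Subgroup S).map (MulAut.conj : S →* MulAut S)) (by
    rw [factorization_mulAut hc hO hp2, ← P.card_eq_multiplicity]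
    exact (Nat.card_congr ((P : Subgroup S).equivMapOfInjective _ (fun x y h => by
      have h1 : innEquiv hc x = innEquiv hc y := Subtype.ext h
      exact (innEquiv hc).injective h1)).toEquiv).symm)

theorem card_sylA (hc : center S = ⊥) (hO : Nat.card (Cfsg.Out S) ≤ 2) (hp2 : p ≠ 2) (P : Sylow p S) :
    Nat.card (sylA hc hO hp2 P) = Nat.card P :=
  (Nat.card_congr ((P : Subgroup S).equivMapOfInjective _ (fun x y h => by
      have h1 : innEquiv hc x = innEquiv hc y := Subtype.ext h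
      exact (innEquiv hc).injective h1)).toEquiv).symm

theorem principal_equiv {S T : Type u} [Group S] [Group T] (f : T ≃* S) {χ : IrrCharacter S}
    (hχ : χ ∈ principalBlock M S) :
    (⟨(χ : S → ℂ) ∘ f, isIrr_comp f.toMonoidHom f.surjective χ.2⟩ : IrrCharacter T) ∈ principalBlock M T := by
  intro x
  have h1 := Blocks.Covering.centralChar_comp_equiv f (χ : S → ℂ) x
  have h2 := Blocks.Covering.centralChar_comp_equiv f (fun _ : S => (1 : ℂ)) x
  show MemLocalIdeal M (centralChar (fun _ : T => (1 : ℂ)) x - centralChar (fun y => (χ : S → ℂ) (f y)) x)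
  rw [h1, h2]
  exact hχ (f x)

/-- A member of the principal block of `MulAut S` over one of `S`. -/
theorem exists_over_aut (hc : center S = ⊥) (hO : Nat.card (Cfsg.Out S) = 2) (hM : IsPModular p M)
    {χ : IrrCharacter S} (hχ : χ ∈ principalBlock M S) :
    ∃ ψ ∈ principalBlock M (MulAut S), (∀ s, (ψ : MulAut S → ℂ) (MulAut.conj s) = (χ : S → ℂ) s) ∨
      ((∀ g, g ∉ Cfsg.Inn S → (ψ : MulAut S → ℂ) g = 0) ∧
        ∀ φ : MulAut S, ¬ (∀ s, (χ : S → ℂ) (φ s) = (χ : S → ℂ) s) →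
          ∀ s, (ψ : MulAut S → ℂ) (MulAut.conj s) = (χ : S → ℂ) s + (χ : S → ℂ) (φ s)) := by
  classical
  have := Fintype.ofFinite S
  have := Fintype.ofFinite (MulAut S)
  have := Fintype.ofFinite (Cfsg.Inn S)
  have hD : (Cfsg.Inn S).index = 2 := by rw [index_inn, hO]
  obtain ⟨Q⟩ : Nonempty (Sylow p (MulAut S)) := inferInstance
  obtain ⟨ψ, hψ, hne⟩ := H656.OverPrincipal.exists_over hM (Cfsg.Inn S) Q
    (by rw [normalizer_eq_top]; exact le_top) _ (principal_equiv (innEquiv hc).symm hχ)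
  refine ⟨ψ, hψ, ?_⟩
  -- move to `S`
  obtain ⟨f, hf⟩ : ∃ f : S → ℂ, f = (ψ : MulAut S → ℂ) ∘ (MulAut.conj : S →* MulAut S) := ⟨_, rfl⟩
  have hfc : IsCharacter S f := by rw [hf]; exact isCharacter_comp _ (isIrr_isCharacter ψ.2)
  have hfχ : classInner f (χ : S → ℂ) ≠ 0 := by
    rw [← Characters.Clifford.classInner_comp_mulEquiv (innEquiv hc).symm]
    convert hne using 2
    funext d
    rw [hf, Function.comp_apply, Function.comp_apply]
    have h1 := innEquiv_coe hc ((innEquiv hc).symm d)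
    rw [MulEquiv.apply_symm_apply] at h1
    rw [← h1]
  by_cases hv : ∃ y, y ∉ Cfsg.Inn S ∧ (ψ : MulAut S → ℂ) y ≠ 0
  · left
    obtain ⟨y, hy, hy0⟩ := hv
    have h1 := isIrr_restrict hD ψ.2 hy hy0
    have h2 : IsIrrCharacter S f := by
      rw [hf]
      exact isIrr_comp (innEquiv hc).toMonoidHom (innEquiv hc).surjective h1
    have h3 : f = (χ : S → ℂ) := by
      by_contra h
      exact hfχ (classInner_irr_ne h2 χ.2 h)
    intro s
    rw [← h3, hf]
    rfl
  · right
    push Not at hv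
    refine ⟨hv, fun φ hφ => ?_⟩
    -- the norm of `f` is `2`
    have hnorm : classInner f f = 2 := by
      have h1 := classInner_irr_self ψ.2
      rw [classInner_def] at h1 ⊢
      have h2 : ∑ g : MulAut S, (ψ : MulAut S → ℂ) g * conj ((ψ : MulAut S → ℂ) g) = ∑ s : S, f s * conj (f s) := by
        rw [← Finset.sum_subset (Finset.subset_univ (Finset.univ.filter fun g => g ∈ Cfsg.Inn S))
          (fun g _ hg => by
            rw [hv g (fun h => hg (Finset.mem_filter.2 ⟨Finset.mem_univ _, h⟩)), zero_mul])]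
        symm
        refine Finset.sum_bij (fun s _ => (MulAut.conj s : MulAut S)) (fun s _ =>
          Finset.mem_filter.2 ⟨Finset.mem_univ _, ⟨s, rfl⟩⟩) ?_ ?_ ?_
        · intro s _ s' _ h
          have h3 : innEquiv hc s = innEquiv hc s' := Subtype.ext h
          exact (innEquiv hc).injective h3
        · intro g hg
          obtain ⟨s, hs⟩ := (Finset.mem_filter.1 hg).2
          exact ⟨s, Finset.mem_univ _, hs⟩
        · intro s _
          rw [hf]; rfl
      rw [h2, card_mulAut hc, hO] at h1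
      have h3 : (Nat.card S : ℂ) ≠ 0 := card_ne_zero_complex
      push_cast at h1 ⊢
      field_simp at h1 ⊢
      linear_combination h1
    have hirr : IsIrrCharacter S ((χ : S → ℂ) ∘ φ) := isIrr_comp φ.toMonoidHom φ.surjective χ.2
    have hfφ : f ∘ φ = f := by
      funext s
      rw [hf]
      show (ψ : MulAut S → ℂ) (MulAut.conj (φ s)) = (ψ : MulAut S → ℂ) (MulAut.conj s)
      have h2 : MulAut.conj (φ s) = φ * MulAut.conj s * φ⁻¹ := by
        ext x
        simp only [MulAut.conj_apply, map_mul, map_inv, _root_.MulAut.mul_apply, _root_.MulAut.inv_apply, _root_.MulEquiv.apply_symm_apply]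
      rw [h2]
      exact classFun_conj (isIrr_isClassFunction ψ.2) φ _
    have hmm : classInner f ((χ : S → ℂ) ∘ φ) = classInner f (χ : S → ℂ) := by
      conv_lhs => rw [← hfφ]
      exact Characters.Clifford.classInner_comp_mulEquiv φ f (χ : S → ℂ)
    obtain ⟨m, hm⟩ := classInner_isNat hfc (isIrr_isCharacter χ.2)
    have hm0 : 1 ≤ m := by
      rcases Nat.eq_zero_or_pos m with h | h
      · rw [h] at hm; exact absurd (by rw [hm]; simp) hfχ
      · exact h
    have hm' : classInner (χ : S → ℂ) f = m := by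
      rw [← classInner_conj_symm, hm, Complex.conj_natCast]
    have hmφ' : classInner ((χ : S → ℂ) ∘ φ) f = m := by
      rw [← classInner_conj_symm, hmm, hm, Complex.conj_natCast]
    have hχφ : (χ : S → ℂ) ≠ (χ : S → ℂ) ∘ φ := by
      intro h
      exact hφ fun s => (congrFun h s).symm
    have h1 : classInner (f - (χ : S → ℂ) - (χ : S → ℂ) ∘ φ) (f - (χ : S → ℂ) - (χ : S → ℂ) ∘ φ) =
        4 - 4 * m := by
      simp only [classInner_sub_left, classInner_sub_right, hnorm, hm, hm', hmm, hmφ', classInner_irr_self χ.2,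
        classInner_irr_self hirr, classInner_irr_ne χ.2 hirr hχφ, classInner_irr_ne hirr χ.2 hχφ.symm]
      ring
    have h2 : (4 - 4 * (m : ℝ)) = 0 := by
      have h3 := classInner_self_eq_ofReal (f - (χ : S → ℂ) - (χ : S → ℂ) ∘ φ)
      rw [h1] at h3
      have h4 : (4 - 4 * (m : ℝ)) = (Nat.card S : ℝ)⁻¹ * ∑ g : S, Complex.normSq ((f - (χ : S → ℂ) - (χ : S → ℂ) ∘ φ) g) := by
        exact_mod_cast h3
      have h5 : (0 : ℝ) ≤ (Nat.card S : ℝ)⁻¹ * ∑ g : S, Complex.normSq ((f - (χ : S → ℂ) - (χ : S → ℂ) ∘ φ) g) :=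
        mul_nonneg (by (clear * -; positivity)) (Finset.sum_nonneg fun _ _ => Complex.normSq_nonneg _)
      have h6 : (1 : ℝ) ≤ m := by exact_mod_cast hm0
      linarith only [h4, h5, h6]
    have h3 : classInner (f - (χ : S → ℂ) - (χ : S → ℂ) ∘ φ) (f - (χ : S → ℂ) - (χ : S → ℂ) ∘ φ) = 0 := by
      rw [h1]
      exact_mod_cast h2
    have h4 := classInner_self_eq_zero h3
    intro s
    have h5 := congrFun h4 s
    rw [Pi.sub_apply, Pi.sub_apply, Pi.zero_apply, Function.comp_apply] at h5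
    have h6 : f s = (ψ : MulAut S → ℂ) (MulAut.conj s) := by rw [hf]; rfl
    rw [← h6]
    linear_combination h5

theorem autInv_of_out_one (hO : Nat.card (Cfsg.Out S) = 1) (χ : IrrCharacter S) : AutInv (χ : S → ℂ) := by
  intro φ s
  have h1 := (Nat.card_eq_one_iff_unique.1 hO).1
  have h2 : φ ∈ Cfsg.Inn S := by
    rw [← QuotientGroup.eq_one_iff]
    exact Subsingleton.elim _ _
  obtain ⟨g, hg⟩ := h2
  rw [← hg, MulAut.conj_apply]
  exact classFun_conj (isIrr_isClassFunction χ.2) g s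

theorem autInv_of_ext {χ : IrrCharacter S} {ψ : IrrCharacter (MulAut S)}
    (h : ∀ s, (ψ : MulAut S → ℂ) (MulAut.conj s) = (χ : S → ℂ) s) : AutInv (χ : S → ℂ) := by
  intro φ s
  rw [← h, ← h]
  have h2 : MulAut.conj (φ s) = φ * MulAut.conj s * φ⁻¹ := by
    ext x
    simp only [MulAut.conj_apply, map_mul, map_inv, _root_.MulAut.mul_apply, _root_.MulAut.inv_apply, _root_.MulEquiv.apply_symm_apply]
  rw [h2]
  exact classFun_conj (isIrr_isClassFunction ψ.2) φ _

/-- **The nonexceptional characters are invariant.** -/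
theorem inv_of_nonexc (hc : center S = ⊥) (hO : Nat.card (Cfsg.Out S) ≤ 2) (hp2 : p ≠ 2) (hM : IsPModular p M)
    (hP : Nat.card P = p) (B : BlockData p M P e t) {χ : IrrCharacter S} (hχ : χ ∈ B.one :: B.l) :
    AutInv (χ : S → ℂ) := by
  have h0 : 0 < Nat.card (Cfsg.Out S) := Nat.card_pos
  rcases (by omega : Nat.card (Cfsg.Out S) = 1 ∨ Nat.card (Cfsg.Out S) = 2) with hO1 | hO2
  · exact autInv_of_out_one hO1 χ
  obtain ⟨ψ, hψ, h | ⟨-, h⟩⟩ := exists_over_aut hc hO2 hM ((B.mem_block χ).2 (Or.inl hχ))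
  · exact autInv_of_ext h
  by_contra hcon
  unfold AutInv at hcon
  push Not at hcon
  obtain ⟨φ, s, hs⟩ := hcon
  have h1 := h φ (fun h' => hs (h' s))
  -- the block of `MulAut S`
  obtain ⟨Q, hQ⟩ : ∃ Q : Sylow p (MulAut S), Q = sylA hc hO hp2 P := ⟨_, rfl⟩
  have hQc : Nat.card Q = p := by rw [hQ, card_sylA, hP]
  have he2 := Cfsg.Agent.J2Type.SylowSeven.relIndex_dvd_of_card_prime (Q : Subgroup (MulAut S)) hp.out hQc
  obtain ⟨t', ht'⟩ := he2
  obtain ⟨B'⟩ := exists_blockData p hp2 M hM Q hQc _ t' rfl ht'.symm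
  refine not_two_val B' hQc ht'.symm hψ (B.ε_mem χ hχ) ?_
  intro x hx hx1
  rw [hQ] at hx
  obtain ⟨z, hz, rfl⟩ : x ∈ (P : Subgroup S).map (MulAut.conj : S →* MulAut S) := hx
  have hz1 : z ≠ 1 := by rintro rfl; exact hx1 (map_one _)
  have hzo : orderOf z = p := by
    have h2 : orderOf (⟨z, hz⟩ : (P : Subgroup S)) ∣ Nat.card (P : Subgroup S) := _root_.orderOf_dvd_natCard _
    rw [Subgroup.orderOf_mk, hP] at h2
    rcases (Nat.dvd_prime hp.out).1 h2 with h3 | h3
    · exact absurd (orderOf_eq_one_iff.1 h3) hz1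
    · exact h3
  rw [h1, val_of_order B hχ hzo, val_of_order B hχ (z := φ z) (by rw [← hzo]; exact orderOf_injective φ.toMonoidHom φ.injective z)]
  ring

end Cfsg.Agent.H635.Spor
end
end

-- part: H635/SporU
section
set_option linter.all false
open scoped Cfsg.Agent.FastGrp

/-!
# `Good p S` when the principal block of some prime order has all degrees prime to `p`

`S` is simple, `|Out S| ≤ 2`.

* `Blk` : the degrees of a principal block with Sylow subgroup of prime order, with invariance;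
* `good_of_block`, `good_of_exact` (`p ∥ |S|`), `good_of_not_dvd` (`p ∤ |S|`).
-/

set_option autoImplicit false
set_option linter.unusedSectionVars false

namespace Cfsg.Agent.H635.Spor

open Cfsg Cfsg.Agent.Characters.Core Cfsg.Agent.SmallSimple.DegreeData Subgroup
open scoped ComplexConjugate

universe u

/-- The basic hypotheses on the simple group. -/
structure Hyp (S : Type u) [Group S] : Prop where
  fin : Finite S
  simple : IsSimpleGroup S
  np : ¬ (Nat.card S).Prime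
  out : Nat.card (Cfsg.Out S) ≤ 2

/-- nontrivial irreducible characters -/
def Nt {S : Type u} [Group S] (χ : IrrCharacter S) : Prop := (χ : S → ℂ) ≠ 1

section

variable {S : Type u} [Group S]

theorem Hyp.center_eq_bot (h : Hyp S) : center S = ⊥ := by
  have := h.fin
  have := h.simple
  rcases (Subgroup.Normal.eq_bot_or_eq_top (inferInstance : (center S).Normal)) with h1 | h1
  · exact h1
  · exfalso
    apply h.np
    have hc : ∀ a b : S, a * b = b * a := fun a b => by
      have : b ∈ center S := by rw [h1]; exact mem_top _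
      exact (Subgroup.mem_center_iff.1 this a)
    let _ : CommGroup S := { (inferInstance : Group S) with mul_comm := hc }
    exact IsSimpleGroup.prime_card

theorem Hyp.deg_ne_one (h : Hyp S) {χ : IrrCharacter S} (hχ : Nt χ) : charDegree (χ : S → ℂ) ≠ 1 := by
  have := h.fin
  have := h.simple
  intro h1
  apply hχ
  refine SmallSimple.SelfCentSum.eq_one_of_apply_one h.np χ.2 ?_
  rw [H687.Irr.one_eq, h1, Nat.cast_one]

theorem deg_ne_zero [Finite S] (χ : IrrCharacter S) : charDegree (χ : S → ℂ) ≠ 0 := Blocks.Knorr.charDegree_ne_zero χ.2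

/-- The consequence of the failure of `Good`. -/
theorem dvd_of_not_good (h : Hyp S) {p : ℕ} (hp : p.Prime) (hp2 : p ≠ 2) (hng : ¬ H687.Good p S)
    {α β : IrrCharacter S} (hα : Nt α) (hβ : Nt β) (hpa : ¬ p ∣ charDegree (α : S → ℂ))
    (hpb : ¬ p ∣ charDegree (β : S → ℂ)) (hinv : AutInv (α : S → ℂ)) :
    charDegree (β : S → ℂ) ∣ charDegree (α : S → ℂ) := by
  have := h.fin
  by_contra hd
  exact hng (good_of_pair h.center_eq_bot h.out hp hp2 (h.deg_ne_one hα) (h.deg_ne_one hβ) hpa hpb hinv hd)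

theorem eq_of_not_good (h : Hyp S) {p : ℕ} (hp : p.Prime) (hp2 : p ≠ 2) (hng : ¬ H687.Good p S)
    {α β : IrrCharacter S} (hα : Nt α) (hβ : Nt β) (hpa : ¬ p ∣ charDegree (α : S → ℂ))
    (hpb : ¬ p ∣ charDegree (β : S → ℂ)) (hinv : AutInv (α : S → ℂ)) (hinv' : AutInv (β : S → ℂ)) :
    charDegree (β : S → ℂ) = charDegree (α : S → ℂ) :=
  Nat.dvd_antisymm (dvd_of_not_good h hp hp2 hng hα hβ hpa hpb hinv)
    (dvd_of_not_good h hp hp2 hng hβ hα hpb hpa hinv')

end

/-- The principal block for a prime `l` with Sylow subgroup `P` of order `l`. -/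
structure Blk (l : ℕ) (S : Type u) [Group S] [Finite S] where
  M : Ideal AlgInt
  hM : IsPModular l M
  P : Sylow l S
  hP : Nat.card P = l
  e : ℕ
  t : ℕ
  he : (centralizer (P : Set S)).relIndex (normalizer (P : Set S)) = e
  ht : e * t = l - 1
  B : BlockData l M P e t

theorem exists_blk (l : ℕ) [hl : Fact l.Prime] (hl2 : l ≠ 2) (S : Type u) [Group S] [Finite S]
    (h1 : l ∣ Nat.card S) (h2 : ¬ l ^ 2 ∣ Nat.card S) : Nonempty (Blk l S) := by
  obtain ⟨M, hM⟩ := Cfsg.Agent.Blocks.ExistsModular.exists_isPModular hl.out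
  obtain ⟨P⟩ : Nonempty (Sylow l S) := inferInstance
  have hP := H661.Spor.card_sylow_eq P h1 h2
  obtain ⟨t, ht⟩ := Cfsg.Agent.J2Type.SylowSeven.relIndex_dvd_of_card_prime (P : Subgroup S) hl.out hP
  obtain ⟨B⟩ := exists_blockData l hl2 M hM P hP _ t rfl ht.symm
  exact ⟨⟨M, hM, P, hP, _, t, rfl, ht.symm, B⟩⟩

namespace Blk

variable {l : ℕ} [hl : Fact l.Prime] {S : Type u} [Group S] [Finite S] (K : Blk l S)

theorem e_ne_zero : K.e ≠ 0 := by
  intro h
  have := K.ht
  rw [h, zero_mul] at this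
  have := hl.out.one_lt
  omega

theorem t_ne_zero : K.t ≠ 0 := by
  intro h
  have := K.ht
  rw [h, mul_zero] at this
  have := hl.out.one_lt
  omega

theorem one_lt_e (h : Hyp S) : 1 < K.e := by
  have := h.simple
  have h1 : l ∣ Nat.card S := by rw [← K.hP]; exact card_subgroup_dvd_card _
  have h2 : Nat.card S ≠ Nat.card K.P := by
    rw [K.hP]
    intro h3
    exact h.np (h3 ▸ hl.out)
  obtain ⟨g, hg, hgC⟩ := H661.Spor.exists_not_centralizer K.P h1 h2
  have h3 := K.e_ne_zero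
  have h4 : K.e ≠ 1 := by
    intro h4
    have h5 := K.he
    rw [h4, relIndex_eq_one] at h5
    exact hgC (h5 hg)
  omega

theorem nt_of_mem_l {χ : IrrCharacter S} (h : χ ∈ K.B.l) : Nt χ := by
  intro h1
  have h2 : χ = K.B.one := Subtype.ext (by rw [h1, K.B.coe_one])
  rw [h2] at h
  exact (List.nodup_cons.1 K.B.nodup).1 h

theorem nt_of_mem_X {χ : IrrCharacter S} (h : χ ∈ K.B.X) : Nt χ := by
  intro h1
  have h2 : χ = K.B.one := Subtype.ext (by rw [h1, K.B.coe_one])
  rw [h2] at h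
  exact K.B.notMem_X K.B.one List.mem_cons_self h

theorem exists_mem_l (h : Hyp S) : ∃ χ, χ ∈ K.B.l := by
  have h1 := K.B.length
  have h2 := K.one_lt_e h
  rcases hl0 : K.B.l with _ | ⟨χ, L⟩
  · rw [hl0] at h1
    simp at h1
    omega
  · exact ⟨χ, List.mem_cons_self⟩

theorem inv_of_mem_l (h : Hyp S) (hl2 : l ≠ 2) {χ : IrrCharacter S} (hχ : χ ∈ K.B.l) : AutInv (χ : S → ℂ) :=
  inv_of_nonexc h.center_eq_bot h.out hl2 K.hM K.hP K.B (List.mem_cons_of_mem _ hχ)

theorem natAbs_of_mem_degs {z : ℤ} (hz : z ∈ K.B.degs) : ∃ χ ∈ K.B.l, charDegree (χ : S → ℂ) = z.natAbs := by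
  obtain ⟨χ, hχ, rfl⟩ := List.mem_map.1 hz
  exact ⟨χ, hχ, (K.B.natAbs_sd (List.mem_cons_of_mem _ hχ)).symm⟩

end Blk

variable {S : Type u} [Group S]

/-- **`Good` from a block with all degrees prime to `p`.** -/
theorem good_of_block (h : Hyp S) {l : ℕ} [hl : Fact l.Prime] (hl2 : l ≠ 2) [Finite S] (K : Blk l S) {p : ℕ}
    (hp : p.Prime) (hp2 : p ≠ 2) (hall : ∀ χ : IrrCharacter S, χ ∈ K.B.l ∨ χ ∈ K.B.X → ¬ p ∣ charDegree (χ : S → ℂ)) :
    H687.Good p S := by
  by_contra hng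
  obtain ⟨α, hα⟩ := K.exists_mem_l h
  obtain ⟨Θ, hΘ⟩ := K.B.exists_X K.ht
  have hαp := hall α (Or.inl hα)
  have hαi := K.inv_of_mem_l h hl2 hα
  have hαn := K.nt_of_mem_l hα
  -- the exceptional degree divides the degree of `α`
  have hf : K.B.f ∣ charDegree (α : S → ℂ) := by
    rw [← K.B.deg_X Θ hΘ]
    exact dvd_of_not_good h hp hp2 hng hαn (K.nt_of_mem_X hΘ) hαp (hall Θ (Or.inr hΘ)) hαi
  have h1 : (K.B.f : ℤ) ∣ K.B.degs.sum := by
    refine dvd_sum_of fun z hz => ?_
    obtain ⟨χ, hχ, hz'⟩ := K.natAbs_of_mem_degs hz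
    rw [← Int.dvd_natAbs, ← hz', eq_of_not_good h hp hp2 hng hαn (K.nt_of_mem_l hχ) hαp (hall χ (Or.inl hχ)) hαi
      (K.inv_of_mem_l h hl2 hχ)]
    exact_mod_cast hf
  have h2 : (K.B.f : ℤ) ∣ K.B.dexc := by
    rw [← Int.dvd_natAbs, K.B.natAbs_dexc]
  have h3 := K.B.dexc_eq K.ht
  have h4 : (K.B.f : ℤ) ∣ 1 := by
    have h5 : (1 : ℤ) = K.B.dexc - K.B.degs.sum := by rw [← h3]; ring
    rw [h5]
    exact dvd_sub h2 h1
  have h5 : K.B.f = 1 := Nat.dvd_one.1 (by exact_mod_cast h4)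
  apply h.deg_ne_one (K.nt_of_mem_X hΘ)
  rw [K.B.deg_X Θ hΘ, h5]

/-- `p ∤ |S|` -/
theorem good_of_not_dvd (h : Hyp S) {l : ℕ} (hl : l.Prime) (hl2 : l ≠ 2) (h1 : l ∣ Nat.card S)
    (h2 : ¬ l ^ 2 ∣ Nat.card S) {p : ℕ} (hp : p.Prime) (hp2 : p ≠ 2) (hpS : ¬ p ∣ Nat.card S) : H687.Good p S := by
  have := h.fin
  have : Fact l.Prime := ⟨hl⟩
  obtain ⟨K⟩ := exists_blk l hl2 S h1 h2
  exact good_of_block h hl2 K hp hp2 fun χ _ hd => hpS (hd.trans (Blocks.Knorr.charDegree_dvd χ.2))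

/-- `p ∥ |S|` -/
theorem good_of_exact (h : Hyp S) {p : ℕ} (hp : p.Prime) (hp2 : p ≠ 2) (h1 : p ∣ Nat.card S)
    (h2 : ¬ p ^ 2 ∣ Nat.card S) : H687.Good p S := by
  have := h.fin
  have : Fact p.Prime := ⟨hp⟩
  obtain ⟨K⟩ := exists_blk p hp2 S h1 h2
  refine good_of_block h hp2 K hp hp2 ?_
  rintro χ (hχ | hχ) hd
  · have h3 := K.B.sd_modEq K.hP (List.mem_cons_of_mem _ hχ)
    have h4 : (p : ℤ) ∣ K.B.sd χ := by
      rw [← Int.dvd_natAbs, K.B.natAbs_sd (List.mem_cons_of_mem _ hχ)]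
      exact_mod_cast hd
    have h5 : (p : ℤ) ∣ 1 := Int.modEq_zero_iff_dvd.1 (h3.symm.trans (Int.modEq_zero_iff_dvd.2 h4))
    have h6 : p ∣ 1 := by exact_mod_cast h5
    exact hp.one_lt.ne' (Nat.dvd_one.1 h6)
  · have h3 := K.B.dexc_modEq K.hP K.ht
    have h4 : (p : ℤ) ∣ K.B.dexc := by
      rw [← Int.dvd_natAbs, K.B.natAbs_dexc, ← K.B.deg_X χ hχ]
      exact_mod_cast hd
    have h5 : (p : ℤ) ∣ (K.e : ℤ) := Int.modEq_zero_iff_dvd.1 (h3.symm.trans (Int.modEq_zero_iff_dvd.2 h4))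
    have h6 : p ∣ K.e := by exact_mod_cast h5
    have h7 := Nat.le_of_dvd (Nat.pos_of_ne_zero K.e_ne_zero) h6
    have h8 : K.e ≤ p - 1 := by
      rw [← K.ht]
      exact Nat.le_mul_of_pos_right _ (Nat.pos_of_ne_zero K.t_ne_zero)
    have := hp.one_lt
    omega

end Cfsg.Agent.H635.Spor
end

-- part: H635/SporFlat
section
prune_inst 0x4010000
set_option linter.all false
open scoped Cfsg.Agent.FastGrp

/-!
# Groups in which all nontrivial characters of degree prime to `p` have the same degree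

* `Flat p d S` : all nontrivial irreducible characters of degree prime to `p` have degree `d`;
* `exists_sing` : for a prime `q` there is a nontrivial irreducible character of degree prime to `p` which is not of
  `q`-defect zero;
* `Flat.mem_surv` : the sieve.
-/

set_option autoImplicit false
set_option linter.unusedSectionVars false

namespace Cfsg.Agent.H635.Spor

open Cfsg Cfsg.Agent.Characters.Core Cfsg.Agent.SmallSimple.DegreeData Subgroup
open scoped ComplexConjugate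

universe u

variable {S : Type u} [Group S]

/-- All nontrivial irreducible characters of degree prime to `p` have degree `d`. -/
def Flat (p d : ℕ) (S : Type u) [Group S] : Prop :=
  ∀ χ : IrrCharacter S, Nt χ → ¬ p ∣ charDegree (χ : S → ℂ) → charDegree (χ : S → ℂ) = d

theorem not_inv_integral {p : ℕ} (hp : 1 < p) {z : ℂ} (hz : IsIntegral ℤ z) : (1 : ℂ) ≠ p * z := by
  intro h
  have hp0 : (p : ℂ) ≠ 0 := by exact_mod_cast (by omega : p ≠ 0)
  have h1 : z = ((1 / p : ℚ) : ℂ) := by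
    push_cast
    field_simp
    linear_combination -h
  obtain ⟨k, hk⟩ := Cfsg.Agent.Characters.GaloisBasic.exists_int_of_isIntegral hz ⟨_, h1⟩
  rw [hk] at h
  have h2 : (1 : ℤ) = p * k := by exact_mod_cast h
  have h3 : (p : ℤ) ∣ 1 := ⟨k, h2⟩
  have h4 : p ∣ 1 := by exact_mod_cast h3
  have := Nat.dvd_one.1 h4
  omega

/-- There is a nontrivial irreducible character of degree prime to `p`, not of `q`-defect zero. -/
theorem exists_sing [Finite S] {p q : ℕ} (hp : 1 < p) (hq : q.Prime) (hqS : q ∣ Nat.card S) :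
    ∃ χ : IrrCharacter S, Nt χ ∧ ¬ p ∣ charDegree (χ : S → ℂ) ∧
      ¬ q ^ (Nat.card S).factorization q ∣ charDegree (χ : S → ℂ) := by
  classical
  have := Fintype.ofFinite S
  have : Finite (IrrCharacter S) := finite_irr
  have := Fintype.ofFinite (IrrCharacter S)
  have : Fact q.Prime := ⟨hq⟩
  obtain ⟨x, hx⟩ := exists_prime_orderOf_dvd_card' q hqS
  by_contra hcon
  push Not at hcon
  have h1 := S0145.sum_irr_mul_conj x (1 : S)
  rw [if_neg (by
    intro h
    have h2 : x = 1 := isConj_one_left.1 h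
    rw [h2, orderOf_one] at hx
    exact hq.one_lt.ne hx)] at h1
  obtain ⟨one, hone⟩ : ∃ o : IrrCharacter S, (o : S → ℂ) = 1 := ⟨⟨1, isIrr_one⟩, rfl⟩
  rw [← Finset.add_sum_erase _ _ (Finset.mem_univ one)] at h1
  have h2 : (one : S → ℂ) x * conj ((one : S → ℂ) 1) = 1 := by rw [hone]; simp
  rw [h2] at h1
  -- every other term is `p` times an integral number
  have h3 : ∀ χ ∈ Finset.univ.erase one, ∃ z : ℂ, IsIntegral ℤ z ∧
      (χ : S → ℂ) x * conj ((χ : S → ℂ) 1) = p * z := by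
    intro χ hχ
    have hnt : Nt χ := fun h => Finset.ne_of_mem_erase hχ (Subtype.ext (by rw [h, hone]))
    by_cases hpd : p ∣ charDegree (χ : S → ℂ)
    · obtain ⟨m, hm⟩ := hpd
      refine ⟨m * (χ : S → ℂ) x, ?_, ?_⟩
      · have hm' : IsIntegral ℤ (m : ℂ) := by
          simpa using (isIntegral_algebraMap (R := ℤ) (A := ℂ) (x := (m : ℤ)))
        exact hm'.mul (Cfsg.Agent.Characters.GaloisBasic.isIntegral_apply (isIrr_isCharacter χ.2) x)
      · rw [H687.Irr.one_eq, hm, Complex.conj_natCast]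
        push_cast
        ring
    · have h4 := hcon χ hnt hpd
      refine ⟨0, isIntegral_zero, ?_⟩
      rw [Cfsg.Agent.H692.RealOver.defect_zero_vanish χ.2 q hq h4 (by rw [hx]), zero_mul, mul_zero]
  have h4 : ∃ z : ℂ, IsIntegral ℤ z ∧ ∑ χ ∈ Finset.univ.erase one, (χ : S → ℂ) x * conj ((χ : S → ℂ) 1) = p * z := by
    choose! z hz1 hz2 using h3
    refine ⟨∑ χ ∈ Finset.univ.erase one, z χ, IsIntegral.sum _ fun χ hχ => hz1 χ hχ, ?_⟩
    rw [Finset.mul_sum]
    exact Finset.sum_congr rfl fun χ hχ => hz2 χ hχ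
  obtain ⟨z, hz, hzs⟩ := h4
  rw [hzs] at h1
  exact not_inv_integral hp hz.neg (by linear_combination h1)

theorem Flat.not_full [Finite S] {p d : ℕ} (hF : Flat p d S) (hp : 1 < p) {q a : ℕ} (hq : q.Prime)
    (hqS : q ∣ Nat.card S) (ha : ¬ q ^ (a + 1) ∣ Nat.card S) : ¬ q ^ a ∣ d := by
  intro h
  obtain ⟨χ, h1, h2, h3⟩ := exists_sing (S := S) hp hq hqS
  apply h3
  rw [hF χ h1 h2]
  refine (pow_dvd_pow q ?_).trans h
  by_contra hcon
  push Not at hcon
  exact ha ((hq.pow_dvd_iff_le_factorization Nat.card_pos.ne').2 hcon)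

theorem Flat.ok {p d : ℕ} (hF : Flat p d S) (hp : 1 < p) {l : ℕ} [hl : Fact l.Prime] [Finite S] (K : Blk l S) :
    Ok p l K.e d := by
  obtain ⟨Θ, hΘ⟩ := K.B.exists_X K.ht
  refine ok_of hp (L := K.B.degs) (x := K.B.dexc) (fun z hz => (K.B.degs_spec K.hP z hz).1) ?_
    (K.B.dexc_modEq K.hP K.ht) ?_ (K.B.dexc_eq K.ht)
  · intro z hz
    obtain ⟨χ, hχ, hz'⟩ := K.natAbs_of_mem_degs hz
    by_cases hpd : p ∣ charDegree (χ : S → ℂ)
    · left
      rw [← Int.dvd_natAbs, ← hz']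
      exact_mod_cast hpd
    · right
      rw [← hz', hF χ (K.nt_of_mem_l hχ) hpd]
  · by_cases hpd : p ∣ charDegree (Θ : S → ℂ)
    · left
      rw [← Int.dvd_natAbs, K.B.natAbs_dexc, ← K.B.deg_X Θ hΘ]
      exact_mod_cast hpd
    · right
      rw [K.B.natAbs_dexc, ← K.B.deg_X Θ hΘ, hF Θ (K.nt_of_mem_X hΘ) hpd]

/-! ### The sieve -/

/-- boolean form of `Ok` -/
def okB (p l e d : ℕ) : Bool :=
  Nat.beq (d % l) 1 || (Nat.beq ((d + 1) % l) 0 || ((Nat.beq (d % l) (e % l) && Nat.beq (d % p) 1) ||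
    (Nat.beq ((d + e) % l) 0 && Nat.beq ((d + 1) % p) 0)))

theorem okB_of_ok {p l e d : ℕ} (hl : 1 < l) (hp : 1 < p) (h : Ok p l e d) : okB p l e d = true := by
  have e1 : ∀ {m a b : ℕ}, (a : ℤ) ≡ b [ZMOD m] → a % m = b % m := fun h => (Int.natCast_modEq_iff.1 h)
  have e2 : ∀ {m a b : ℕ}, (a : ℤ) ≡ -b [ZMOD m] → (a + b) % m = 0 := by
    intro m a b h
    have h1 : ((a + b : ℕ) : ℤ) ≡ ((0 : ℕ) : ℤ) [ZMOD m] := by
      have := h.add_right (b : ℤ)
      simpa using this
    have := e1 h1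
    simpa using this
  have hl1 : 1 % l = 1 := Nat.mod_eq_of_lt hl
  have hp1 : 1 % p = 1 := Nat.mod_eq_of_lt hp
  unfold okB
  rcases h with h | h | ⟨h, h'⟩ | ⟨h, h'⟩
  · have := e1 (m := l) (a := d) (b := 1) (by simpa using h)
    rw [hl1] at this
    simp [this]
  · have := e2 (m := l) (a := d) (b := 1) (by simpa using h)
    simp [this]
  · have h1 := e1 (m := l) (a := d) (b := e) h
    have h2 := e1 (m := p) (a := d) (b := 1) (by simpa using h')
    rw [hp1] at h2
    simp [h1, h2]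
  · have h1 := e2 (m := l) (a := d) (b := e) h
    have h2 := e2 (m := p) (a := d) (b := 1) (by simpa using h')
    simp [h1, h2]

/-- `g` at `acc * q ^ i` for all `i ≤ a` -/
def allPow (g : ℕ → Bool) (q : ℕ) : ℕ → ℕ → Bool
  | 0, acc => g acc
  | a + 1, acc => g acc && allPow g q a (acc * q)

theorem allPow_sound {g : ℕ → Bool} {q : ℕ} : ∀ {a acc : ℕ}, allPow g q a acc = true → ∀ i ≤ a, g (acc * q ^ i) = true
  | 0, acc, h, i, hi => by
    obtain rfl : i = 0 := by omega
    simpa [allPow] using h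
  | a + 1, acc, h, i, hi => by
    rw [allPow, Bool.and_eq_true] at h
    rcases i with _ | i
    · simpa using h.1
    · have := allPow_sound h.2 i (by omega)
      rw [show acc * q ^ (i + 1) = acc * q * q ^ i by ring]
      exact this

/-- `f` at all products -/
def allD (f : ℕ → Bool) : List (ℕ × ℕ) → ℕ → Bool
  | [], acc => f acc
  | x :: L, acc => allPow (allD f L) x.1 x.2 acc

theorem allD_sound {f : ℕ → Bool} : ∀ (L : List (ℕ × ℕ)) (acc d : ℕ), (∀ x ∈ L, x.1.Prime) → d ≠ 0 →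
    (∀ r : ℕ, r.Prime → r ∣ d → r ∈ L.map Prod.fst) → (∀ x ∈ L, ¬ x.1 ^ (x.2 + 1) ∣ d) → allD f L acc = true →
    f (acc * d) = true
  | [], acc, d, _, hd, h, _, hc => by
    have : d = 1 := by
      by_contra hne
      obtain ⟨r, hr, hrd⟩ := Nat.exists_prime_and_dvd hne
      simpa using h r hr hrd
    rw [this, mul_one]
    exact hc
  | x :: L, acc, d, hL, hd, h, h', hc => by
    have hx := hL x List.mem_cons_self
    obtain ⟨i, m, hm, him⟩ := Nat.exists_eq_pow_mul_and_not_dvd (Nat.pos_of_ne_zero hd |> fun h => h.ne') x.1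
      hx.one_lt.ne'
    have hi : i ≤ x.2 := by
      by_contra hcon
      push Not at hcon
      apply h' x List.mem_cons_self
      rw [him]
      exact (pow_dvd_pow _ hcon).trans (dvd_mul_right _ _)
    have hmd : m ∣ d := him ▸ dvd_mul_left _ _
    have h1 := allPow_sound (show allPow (allD f L) x.1 x.2 acc = true from hc) i hi
    have h2 := allD_sound L (acc * x.1 ^ i) m (fun y hy => hL y (List.mem_cons_of_mem _ hy))
      (by rintro rfl; exact hm (dvd_zero _)) (fun r hr hrm => by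
        have := h r hr (hrm.trans hmd)
        rw [List.map_cons, List.mem_cons] at this
        rcases this with h3 | h3
        · exact absurd (h3 ▸ hrm) hm
        · exact h3) (fun y hy hyd => h' y (List.mem_cons_of_mem _ hy) (hyd.trans hmd)) h1
    rw [him, ← mul_assoc]
    exact h2

/-- the divisors of `l - 1` other than one -/
def dvs (l : ℕ) : List ℕ := (List.range l).filter fun e => Nat.blt 1 e && Nat.beq ((l - 1) % e) 0

/-- the test for `d` -/
def tst (N p : ℕ) (ls : List (ℕ × List ℕ)) (surv : List ℕ) (d : ℕ) : Bool :=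
  Nat.ble d 1 || (Nat.ble N (d * d) || (surv.any (fun s => Nat.beq s d) ||
    !(ls.all fun x => x.2.any fun e => okB p x.1 e d)))

/-- the list of bounds for the exponents -/
def bnd (p : ℕ) (F : List (ℕ × ℕ)) : List (ℕ × ℕ) := F.map fun x => (x.1, if Nat.beq x.1 p then 0 else x.2 - 1)

/-- the value of the list -/
def val (F : List (ℕ × ℕ)) : ℕ := (F.map fun x => x.1 ^ x.2).prod

theorem mem_of_prime_dvd_val : ∀ {F : List (ℕ × ℕ)} {r : ℕ}, (∀ x ∈ F, x.1.Prime) → r.Prime → r ∣ val F →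
    r ∈ F.map Prod.fst
  | [], r, _, hr, h => absurd (Nat.dvd_one.1 (by simpa [val] using h)) hr.one_lt.ne'
  | x :: F, r, hF, hr, h => by
    rw [val, List.map_cons, List.prod_cons] at h
    rw [List.map_cons, List.mem_cons]
    rcases hr.dvd_mul.1 h with h1 | h1
    · left
      exact (Nat.prime_dvd_prime_iff_eq hr (hF x List.mem_cons_self)).1 (hr.dvd_of_dvd_pow h1)
    · right
      exact mem_of_prime_dvd_val (fun y hy => hF y (List.mem_cons_of_mem _ hy)) hr h1

/-- the exponents are exact -/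
def exact (F : List (ℕ × ℕ)) (N : ℕ) : Bool :=
  F.all fun x => Nat.blt 0 x.2 && !(Nat.beq (N % x.1 ^ (x.2 + 1)) 0)

theorem mem_dvs {l e t : ℕ} (h1 : 1 < e) (ht : e * t = l - 1) (hl : 1 < l) : e ∈ dvs l := by
  unfold dvs
  rw [List.mem_filter, List.mem_range]
  have ht0 : t ≠ 0 := by rintro rfl; omega
  have h2 : e ≤ l - 1 := by rw [← ht]; exact Nat.le_mul_of_pos_right _ (Nat.pos_of_ne_zero ht0)
  refine ⟨by omega, ?_⟩
  rw [Bool.and_eq_true]
  refine ⟨Nat.ble_eq_true_of_le h1, ?_⟩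
  rw [← ht]
  simp

theorem sq_lt_card [Finite S] {χ : IrrCharacter S} (hχ : Nt χ) :
    charDegree (χ : S → ℂ) * charDegree (χ : S → ℂ) < Nat.card S := by
  classical
  have : Finite (IrrCharacter S) := finite_irr
  have := Fintype.ofFinite (IrrCharacter S)
  rw [← Cfsg.Agent.SmallSimple.DegreeData.sum_sq (G := S)]
  obtain ⟨one, hone⟩ : ∃ o : IrrCharacter S, (o : S → ℂ) = 1 := ⟨⟨1, isIrr_one⟩, rfl⟩
  have hne : χ ≠ one := by
    rintro rfl
    exact hχ hone
  have h1 : (({one, χ} : Finset (IrrCharacter S)).sum fun ψ => charDegree (ψ : S → ℂ) ^ 2) ≤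
      ∑ ψ : IrrCharacter S, charDegree (ψ : S → ℂ) ^ 2 :=
    Finset.sum_le_sum_of_subset (Finset.subset_univ _)
  rw [Finset.sum_pair hne.symm] at h1
  have h2 : charDegree (one : S → ℂ) = 1 := by
    apply H687.charDegree_of_eq
    rw [hone]
    simp
  rw [h2] at h1
  have h3 : charDegree (χ : S → ℂ) ^ 2 = charDegree (χ : S → ℂ) * charDegree (χ : S → ℂ) := sq _
  omega

/-- **The sieve.** -/
theorem Flat.mem_surv (h : Hyp S) {p d : ℕ} (hp : p.Prime) (hF : Flat p d S) (F : List (ℕ × ℕ)) (N : ℕ)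
    (hN : Nat.card S = N) (hFN : val F = N) (hFp : ∀ x ∈ F, x.1.Prime) (hFe : exact F N = true)
    (ls : List (ℕ × List ℕ)) (hls : ∀ x ∈ ls, x.1.Prime ∧ x.1 ≠ 2 ∧ x.1 ∣ N ∧ ¬ x.1 ^ 2 ∣ N)
    (hes : ∀ x ∈ ls, ∀ [Fact x.1.Prime] [Finite S] (K : Blk x.1 S), K.e ∈ x.2) (surv : List ℕ)
    (hc : allD (tst N p ls surv) (bnd p F) 1 = true) : d ∈ surv := by
  classical
  have := h.fin
  have hF0 : F ≠ [] := by
    rintro rfl
    have := h.simple
    have h1 : 1 < Nat.card S := Finite.one_lt_card_iff_nontrivial.2 inferInstance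
    rw [hN, ← hFN] at h1
    simp [val] at h1
  obtain ⟨x0, hx0⟩ := List.exists_mem_of_ne_nil F hF0
  have hex : ∀ x ∈ F, 0 < x.2 ∧ ¬ x.1 ^ (x.2 + 1) ∣ N := by
    intro x hx
    have h1 := List.all_eq_true.1 hFe x hx
    rw [Bool.and_eq_true] at h1
    refine ⟨Nat.le_of_ble_eq_true h1.1, fun hd => ?_⟩
    have h2 := h1.2
    rw [Nat.mod_eq_zero_of_dvd hd] at h2
    simp at h2
  have hdvd : ∀ x ∈ F, x.1 ∣ N := by
    intro x hx
    rw [← hFN]
    refine (dvd_pow_self x.1 (hex x hx).1.ne').trans ?_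
    exact List.dvd_prod (List.mem_map.2 ⟨x, hx, rfl⟩)
  obtain ⟨χ, hχ1, hχ2, hχ3⟩ := exists_sing (S := S) hp.one_lt (hFp x0 hx0) (by rw [hN]; exact hdvd x0 hx0)
  have hχd := hF χ hχ1 hχ2
  have hd0 : d ≠ 0 := by rw [← hχd]; exact deg_ne_zero χ
  have hdN : d ∣ N := by rw [← hχd, ← hN]; exact Blocks.Knorr.charDegree_dvd χ.2
  have hpd : ¬ p ∣ d := by rw [← hχd]; exact hχ2
  have h1 := allD_sound (f := tst N p ls surv) (bnd p F) 1 d ?_ hd0 ?_ ?_ hc
  · rw [one_mul, tst, Bool.or_eq_true, Bool.or_eq_true, Bool.or_eq_true] at h1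
    rcases h1 with h1 | h1 | h1 | h1
    · exfalso
      have h2 : d ≤ 1 := Nat.le_of_ble_eq_true h1
      have h3 := h.deg_ne_one hχ1
      rw [hχd] at h3
      omega
    · exfalso
      have h2 : N ≤ d * d := Nat.le_of_ble_eq_true h1
      have h3 := sq_lt_card hχ1
      rw [hχd, hN] at h3
      omega
    · obtain ⟨s, hs, hsd⟩ := List.any_eq_true.1 h1
      rw [← Nat.eq_of_beq_eq_true hsd]
      exact hs
    · exfalso
      rw [Bool.not_eq_true', List.all_eq_false] at h1
      obtain ⟨x, hx, hx'⟩ := h1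
      apply hx'
      obtain ⟨hl, hl2, hlN, hlN2⟩ := hls x hx
      have : Fact x.1.Prime := ⟨hl⟩
      obtain ⟨K⟩ := exists_blk x.1 hl2 S (hN ▸ hlN) (hN ▸ hlN2)
      rw [List.any_eq_true]
      exact ⟨K.e, hes x hx K, okB_of_ok hl.one_lt hp.one_lt (hF.ok hp.one_lt K)⟩
  · intro x hx
    obtain ⟨y, hy, rfl⟩ := List.mem_map.1 hx
    exact hFp y hy
  · intro r hr hrd
    have h2 := mem_of_prime_dvd_val hFp hr (by rw [hFN]; exact hrd.trans hdN)
    rw [bnd, List.map_map]
    exact h2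
  · intro x hx
    obtain ⟨y, hy, rfl⟩ := List.mem_map.1 hx
    show ¬ y.1 ^ ((if Nat.beq y.1 p then 0 else y.2 - 1) + 1) ∣ d
    by_cases hyp : y.1 = p
    · rw [if_pos (by rw [hyp]; exact Nat.beq_refl p), zero_add, pow_one, hyp]
      exact hpd
    · rw [if_neg (by simpa using hyp)]
      have h2 := (hex y hy).1
      rw [Nat.sub_add_cancel h2]
      exact hF.not_full hp.one_lt (hFp y hy) (hN ▸ hdvd y hy) (hN ▸ (hex y hy).2)

end Cfsg.Agent.H635.Spor

private theorem dce_3b8bb7b5c3fe : _root_.True := by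
  try have : _root_.True := by simp only [_root_.Cfsg.Agent.H635.Spor.allPow.eq_2]
  try have : _root_.True := by simp only [_root_.Cfsg.Agent.H635.Spor.tst.eq_1]
  try have : _root_.True := by simp only [_root_.Cfsg.Agent.H635.Spor.bnd.eq_1]
  try have : _root_.True := by simp only [_root_.Cfsg.Agent.H635.Spor.allPow.eq_1]
  try have : _root_.True := by simp only [_root_.Cfsg.Agent.H635.Spor.allPow.eq_def]
  try have : _root_.True := by simp only [_root_.Cfsg.Agent.H635.Spor.val.eq_1]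
  exact _root_.True.intro
end

-- part: H34/SporTool
section
set_option linter.all false
open scoped Cfsg.Agent.FastGrp

/-!
# S4834, sporadic rows: tools (helper34)

* `frame_pair` : the degrees of the two nontrivial constituents of a rank 3 permutation character from
  Frame's theorem and a kernel-checked search;
* `inv_of_perm` : invariance of these constituents under an automorphism fixing the permutation character;
* `good_of_inv` : `Good p S` from an invariant character of degree `d` prime to `p` and one block `B_0(l)`.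
-/

set_option autoImplicit false
set_option linter.unusedSectionVars false

namespace Cfsg.Agent.H34.SporTool

open Cfsg Cfsg.Agent.H635.Spor Cfsg.Agent.Characters.Core Cfsg.Agent.H690.Spor.RankThree

universe u

/-! ### the search -/

/-- `f` holds on `[a, a + 2 ^ k)`. -/
def allP (f : ℕ → Bool) : ℕ → ℕ → Bool
  | 0, a => f a
  | k + 1, a => allP f k a && allP f k (a + 2 ^ k)

theorem allP_sound {f : ℕ → Bool} : ∀ (k a : ℕ), allP f k a = true → ∀ i, a ≤ i → i < a + 2 ^ k → f i = true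
  | 0, a, h, i, h1, h2 => by
    have : i = a := by omega
    rw [this]; exact h
  | k + 1, a, h, i, h1, h2 => by
    rw [allP, Bool.and_eq_true] at h
    rw [pow_succ] at h2
    by_cases h3 : i < a + 2 ^ k
    · exact allP_sound k a h.1 i h1 h3
    · exact allP_sound k (a + 2 ^ k) h.2 i (by omega) (by omega)

/-- `q` is a square modulo `M`. -/
def sqm (q M : ℕ) : Bool := (List.range M).any fun r => Nat.beq (r * r % M) (q % M)

theorem sqm_sound {q M : ℕ} (hM : 0 < M) (h : IsSquare q) : sqm q M = true := by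
  obtain ⟨s, rfl⟩ := h
  rw [sqm, List.any_eq_true]
  refine ⟨s % M, List.mem_range.2 (Nat.mod_lt _ hM), ?_⟩
  rw [← Nat.mul_mod]
  exact Nat.beq_refl _

/-- the test at `s`: `f g s² = N`, `f + g = m` has only the solutions `{d₁, d₂}` -/
def tst (N m d₁ d₂ : ℕ) (Ms : List ℕ) (s : ℕ) : Bool :=
  if Nat.beq (N % (s * s)) 0 then
    (Nat.ble (m * m + 1) (4 * (N / (s * s))) || !(Ms.all fun M => sqm (m * m - 4 * (N / (s * s))) M)) ||
      Nat.beq (N / (s * s)) (d₁ * d₂)
  else true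

theorem tst_sound {N m d₁ d₂ s : ℕ} {Ms : List ℕ} (hMs : ∀ M ∈ Ms, 0 < M) (h : tst N m d₁ d₂ Ms s = true)
    {f g : ℕ} (hs : s ≠ 0) (hfg : f + g = m) (hN : f * g * (s * s) = N) : f * g = d₁ * d₂ := by
  have hss : 0 < s * s := Nat.mul_pos (Nat.pos_of_ne_zero hs) (Nat.pos_of_ne_zero hs)
  have h1 : N % (s * s) = 0 := by rw [← hN]; exact Nat.mul_mod_left _ _
  have h2 : N / (s * s) = f * g := by rw [← hN]; exact Nat.mul_div_cancel _ hss
  have h3 : Nat.beq (N % (s * s)) 0 = true := by rw [h1]; rfl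
  rw [tst, if_pos h3, h2, Bool.or_eq_true, Bool.or_eq_true] at h
  have h4 : 4 * (f * g) + (max f g - min f g) * (max f g - min f g) = m * m := by
    rcases le_total f g with hle | hle
    · rw [max_eq_right hle, min_eq_left hle, ← hfg]
      obtain ⟨c, rfl⟩ := Nat.exists_eq_add_of_le hle
      rw [Nat.add_sub_cancel_left]; ring
    · rw [max_eq_left hle, min_eq_right hle, ← hfg]
      obtain ⟨c, rfl⟩ := Nat.exists_eq_add_of_le hle
      rw [Nat.add_sub_cancel_left]; ring
  rcases h with (h | h) | h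
  · exfalso
    have := Nat.le_of_ble_eq_true h
    omega
  · exfalso
    rw [Bool.not_eq_true', ← Bool.not_eq_true, List.all_eq_true] at h
    apply h
    intro M hM
    refine sqm_sound (hMs M hM) ⟨max f g - min f g, ?_⟩
    omega
  · exact Nat.eq_of_beq_eq_true h

theorem pair_of_mul {f g d₁ d₂ : ℕ} (h1 : f + g = d₁ + d₂) (h2 : f * g = d₁ * d₂) :
    (f = d₁ ∧ g = d₂) ∨ (f = d₂ ∧ g = d₁) := by
  have h3 : ((f : ℤ) - d₁) * ((f : ℤ) - d₂) = 0 := by
    have e1 : (f : ℤ) + g = d₁ + d₂ := by exact_mod_cast h1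
    have e2 : (f : ℤ) * g = d₁ * d₂ := by exact_mod_cast h2
    have e3 : (g : ℤ) = d₁ + d₂ - f := by linarith
    rw [e3] at e2
    linarith
  rcases mul_eq_zero.1 h3 with h | h
  · left
    have : f = d₁ := by omega
    exact ⟨this, by omega⟩
  · right
    have : f = d₂ := by omega
    exact ⟨this, by omega⟩

variable {G X : Type*} [Group G] [MulAction G X] {R : X → X → Prop} {k l : ℕ}

/-- **The degrees of a rank 3 permutation character.** `b` bounds the square root of `N / (m - 1)`; the case `f = g` is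
excluded by `hne`. -/
theorem frame_pair [Finite G] (h : R3 G X R k l) (d₁ d₂ : ℕ) (hd : d₁ + d₂ = k + l) (Ms : List ℕ)
    (hMs : ∀ M ∈ Ms, 0 < M) (a : ℕ) (ha : (1 + k + l) * k * l < (k + l - 1) * (2 ^ a * 2 ^ a))
    (hne : ∀ f, f + f = k + l → ¬ f ∣ (1 + k + l) * k * l)
    (hc : allP (tst ((1 + k + l) * k * l) (k + l) d₁ d₂ Ms) a 0 = true) :
    ∃ χ₁ χ₂ : IrrCharacter G, charDegree (χ₁ : G → ℂ) = d₁ ∧ charDegree (χ₂ : G → ℂ) = d₂ ∧
      ∀ x : G, (Nat.card (MulAction.fixedBy X x) : ℂ) = 1 + (χ₁ : G → ℂ) x + (χ₂ : G → ℂ) x := by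
  classical
  have hfin : Finite X := by
    by_contra hcon
    rw [not_finite_iff_infinite] at hcon
    have h1 := h.cardn
    rw [Nat.card_eq_zero_of_infinite] at h1
    omega
  have := Fintype.ofFinite X
  obtain ⟨χ₁, χ₂, f, g, D, hf, hg, hπ, hfg, hprod, hsq⟩ := h.frame
  have hn0 : 0 < (1 + k + l) * k * l := by
    have := h.k0; have := h.l0; positivity
  have hfg' : f ≠ g := by
    rintro rfl
    exact hne f hfg ⟨f * D, by rw [← hprod]; ring⟩
  obtain ⟨s, hs⟩ := hsq hfg'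
  rw [hs] at hprod
  have hs0 : s ≠ 0 := by
    rintro rfl
    rw [mul_zero, mul_zero] at hprod
    omega
  have hf0 : f ≠ 0 := by rintro rfl; rw [zero_mul, zero_mul] at hprod; omega
  have hg0 : g ≠ 0 := by rintro rfl; rw [mul_zero, zero_mul] at hprod; omega
  have hs2 : s < 2 ^ a := by
    by_contra hcon
    push Not at hcon
    have h1 : 2 ^ a * 2 ^ a ≤ s * s := Nat.mul_le_mul hcon hcon
    have h2 : k + l - 1 ≤ f * g := by
      rw [← hfg]
      obtain ⟨f', rfl⟩ := Nat.exists_eq_succ_of_ne_zero hf0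
      obtain ⟨g', rfl⟩ := Nat.exists_eq_succ_of_ne_zero hg0
      simp only [Nat.succ_eq_add_one]
      have h4 : (f' + 1) * (g' + 1) = f' * g' + f' + g' + 1 := by ring
      rw [h4]
      have h5 := Nat.zero_le (f' * g')
      omega
    have h3 : (k + l - 1) * (2 ^ a * 2 ^ a) ≤ f * g * (s * s) := Nat.mul_le_mul h2 h1
    omega
  have key := tst_sound hMs (allP_sound a 0 hc s (Nat.zero_le _) (by omega)) hs0 hfg hprod
  have hdf : charDegree (χ₁ : G → ℂ) = f := Cfsg.Agent.Blocks.Basic.charDegree_of_eq hf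
  have hdg : charDegree (χ₂ : G → ℂ) = g := Cfsg.Agent.Blocks.Basic.charDegree_of_eq hg
  rcases pair_of_mul (hfg.trans hd.symm) key with ⟨h1, h2⟩ | ⟨h1, h2⟩
  · exact ⟨χ₁, χ₂, hdf.trans h1, hdg.trans h2, hπ⟩
  · exact ⟨χ₂, χ₁, hdg.trans h2, hdf.trans h1, fun x => by rw [hπ x]; ring⟩

/-! ### invariance -/

section Inv

variable {S : Type u} [Group S]

/-- An irreducible constituent of `1 + χ₁ + χ₂`. -/
theorem mem_of_inner [Finite S] {χ₁ χ₂ ψ : IrrCharacter S} {π : S → ℂ} (hπ : ∀ x, π x = 1 + (χ₁ : S → ℂ) x + (χ₂ : S → ℂ) x)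
    {σ : MulAut S} (hσ : ∀ x, π (σ x) = π x) (hψ : ∀ x, (ψ : S → ℂ) x = (χ₁ : S → ℂ) (σ x)) :
    (ψ : S → ℂ) = 1 ∨ ψ = χ₁ ∨ ψ = χ₂ := by
  classical
  have := Fintype.ofFinite S
  by_contra hcon
  push Not at hcon
  obtain ⟨h1, h2, h3⟩ := hcon
  -- `⟨π, ψ⟩ = 0`
  have e1 : classInner π (ψ : S → ℂ) = 0 := by
    have : π = 1 + (χ₁ : S → ℂ) + (χ₂ : S → ℂ) := by
      funext x; rw [hπ x]; rfl
    rw [this, classInner_add_left, classInner_add_left, classInner_irr_ne isIrr_one ψ.2 (Ne.symm h1),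
      classInner_irr_ne χ₁.2 ψ.2 (fun h => h2 (Subtype.ext h.symm)),
      classInner_irr_ne χ₂.2 ψ.2 (fun h => h3 (Subtype.ext h.symm))]
    norm_num
  -- `⟨π, χ₁⟩ = ⟨π ∘ σ, χ₁ ∘ σ⟩`
  have e2 : classInner π (ψ : S → ℂ) = classInner π (χ₁ : S → ℂ) := by
    unfold classInner
    congr 1
    refine Fintype.sum_equiv σ.toEquiv _ _ fun x => ?_
    rw [hψ x, ← hσ x]
    rfl
  have e3 : classInner π (χ₁ : S → ℂ) ≠ 0 := by
    have : π = 1 + (χ₁ : S → ℂ) + (χ₂ : S → ℂ) := by
      funext x; rw [hπ x]; rfl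
    rw [this, classInner_add_left, classInner_add_left, classInner_irr_self χ₁.2, classInner_irr isIrr_one χ₁.2,
      classInner_irr χ₂.2 χ₁.2]
    split_ifs <;> norm_num
  exact e3 (e2 ▸ e1)

theorem inv_of_perm_one [Finite S] {χ₁ χ₂ : IrrCharacter S} {π : S → ℂ}
    (hπ : ∀ x, π x = 1 + (χ₁ : S → ℂ) x + (χ₂ : S → ℂ) x) (h1 : charDegree (χ₁ : S → ℂ) ≠ 1)
    (h12 : charDegree (χ₁ : S → ℂ) ≠ charDegree (χ₂ : S → ℂ)) {σ : MulAut S} (hσ : ∀ x, π (σ x) = π x) (x : S) :
    (χ₁ : S → ℂ) (σ x) = (χ₁ : S → ℂ) x := by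
  obtain ⟨ψ, hψ⟩ : ∃ ψ : IrrCharacter S, ∀ x, (ψ : S → ℂ) x = (χ₁ : S → ℂ) (σ x) :=
    ⟨⟨(χ₁ : S → ℂ) ∘ σ, isIrr_comp σ.toMonoidHom σ.surjective χ₁.2⟩, fun _ => rfl⟩
  have hd : charDegree (ψ : S → ℂ) = charDegree (χ₁ : S → ℂ) := by
    unfold charDegree
    rw [hψ, map_one]
  rcases mem_of_inner hπ hσ hψ with h | h | h
  · exfalso
    apply h1
    rw [← hd, h]
    unfold charDegree
    simp
  · rw [← hψ, h]
  · exfalso
    apply h12
    rw [← hd, h]

theorem inv_of_perm [Finite S] {χ₁ χ₂ : IrrCharacter S} {π : S → ℂ}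
    (hπ : ∀ x, π x = 1 + (χ₁ : S → ℂ) x + (χ₂ : S → ℂ) x) (h1 : charDegree (χ₁ : S → ℂ) ≠ 1)
    (h2 : charDegree (χ₂ : S → ℂ) ≠ 1)
    (h12 : charDegree (χ₁ : S → ℂ) ≠ charDegree (χ₂ : S → ℂ)) (hσ : AutInv π) :
    AutInv (χ₁ : S → ℂ) ∧ AutInv (χ₂ : S → ℂ) :=
  ⟨fun σ x => inv_of_perm_one hπ h1 h12 (hσ σ) x,
    fun σ x => inv_of_perm_one (χ₁ := χ₂) (χ₂ := χ₁) (fun x => by rw [hπ x]; ring) h2 h12.symm (hσ σ) x⟩

theorem AutInv.of_equiv {T : Type*} [Group T] (e : S ≃* T) {f : T → ℂ} (h : AutInv f) : AutInv (f ∘ e) := by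
  intro φ s
  have h1 := h (MulAut.congr e φ) (e s)
  have h2 : (MulAut.congr e φ) (e s) = e (φ s) := by simp [MulAut.congr]
  rw [h2] at h1
  exact h1

end Inv

end Cfsg.Agent.H34.SporTool

private theorem dce_b9b88a051752 : _root_.True := by
  try have : _root_.True := by simp only [_root_.Cfsg.Agent.H34.SporTool.allP.eq_2]
  try have : _root_.True := by simp only [_root_.Cfsg.Agent.H34.SporTool.sqm.eq_1]
  try have : _root_.True := by simp only [_root_.Cfsg.Agent.H34.SporTool.allP.eq_1]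
  try have : _root_.True := by simp only [_root_.Cfsg.Agent.H34.SporTool.tst.eq_1]
  try have : _root_.True := by simp only [_root_.Cfsg.Agent.H34.SporTool.allP.eq_def]
  exact _root_.True.intro
end

-- part: H635/SporOut1
section
set_option linter.all false
open scoped Cfsg.Agent.FastGrp

/-!
# The sieve for groups without outer automorphisms
-/

set_option autoImplicit false
set_option linter.unusedSectionVars false

namespace Cfsg.Agent.H635.Spor

open Cfsg Cfsg.Agent.Characters.Core Cfsg.Agent.SmallSimple.DegreeData Subgroup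

universe u v

variable {S : Type u} [Group S]

theorem card_out_congr {T : Type v} [Group T] (e : S ≃* T) : Nat.card (Cfsg.Out S) = Nat.card (Cfsg.Out T) := by
  refine Nat.card_congr (QuotientGroup.congr (Cfsg.Inn S) (Cfsg.Inn T) (MulAut.congr e) ?_).toEquiv
  ext φ
  constructor
  · rintro ⟨ψ, ⟨s, rfl⟩, rfl⟩
    refine ⟨e s, ?_⟩
    ext x
    simp [MulAut.congr]
  · rintro ⟨t, rfl⟩
    refine ⟨MulAut.conj (e.symm t), ⟨_, rfl⟩, ?_⟩
    ext x
    simp [MulAut.congr]

theorem hyp_of [Finite S] [IsSimpleGroup S] {N : ℕ} (hN : Nat.card S = N) (h2 : 2 ∣ N) (hN2 : N ≠ 2) {k : ℕ}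
    (hO : Nat.card (Cfsg.Out S) = k) (hk : k ≤ 2) : Hyp S where
  fin := inferInstance
  simple := inferInstance
  np := by
    rw [hN]
    intro h
    rcases (Nat.dvd_prime h).1 h2 with h1 | h1
    · omega
    · exact hN2 h1.symm
  out := by rw [hO]; exact hk

theorem exists_prime_dvd_card (h : Hyp S) : ∃ q : ℕ, q.Prime ∧ q ∣ Nat.card S := by
  have := h.fin
  have := h.simple
  have h1 : 1 < Nat.card S := Finite.one_lt_card_iff_nontrivial.2 inferInstance
  exact Nat.exists_prime_and_dvd h1.ne'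

theorem flat_of_not_good (h : Hyp S) (hO : Nat.card (Cfsg.Out S) = 1) {p : ℕ} (hp : p.Prime) (hp2 : p ≠ 2)
    (hng : ¬ H687.Good p S) : ∃ d, Flat p d S := by
  have := h.fin
  obtain ⟨q, hq, hqS⟩ := exists_prime_dvd_card h
  obtain ⟨χ, h1, h2, -⟩ := exists_sing (S := S) hp.one_lt hq hqS
  exact ⟨_, fun ψ h3 h4 => eq_of_not_good h hp hp2 hng h1 h3 h2 h4 (autInv_of_out_one hO χ) (autInv_of_out_one hO ψ)⟩

theorem mem_of_dvs (h : Hyp S) {l : ℕ} {L : List ℕ} (hL : dvs l = L) [hl : Fact l.Prime] [Finite S] (K : Blk l S) :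
    K.e ∈ L := by
  rw [← hL]
  exact mem_dvs (K.one_lt_e h) K.ht hl.out.one_lt

/-- **The sieve without information on the inertial indices.** -/
theorem good_of_sieve (h : Hyp S) (hO : Nat.card (Cfsg.Out S) = 1) {p : ℕ} (hp : p.Prime) (hp2 : p ≠ 2)
    (F : List (ℕ × ℕ)) (N : ℕ) (hN : Nat.card S = N) (hFN : val F = N) (hFp : ∀ x ∈ F, x.1.Prime)
    (hFe : exact F N = true) (ls : List (ℕ × List ℕ))
    (hls : ∀ x ∈ ls, x.1.Prime ∧ x.1 ≠ 2 ∧ x.1 ∣ N ∧ ¬ x.1 ^ 2 ∣ N) (hes : ∀ x ∈ ls, dvs x.1 = x.2)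
    (hc : allD (tst N p ls []) (bnd p F) 1 = true) : H687.Good p S := by
  by_contra hng
  obtain ⟨d, hd⟩ := flat_of_not_good h hO hp hp2 hng
  have := hd.mem_surv h hp F N hN hFN hFp hFe ls hls (fun x hx _ _ K => mem_of_dvs h (hes x hx) K) [] hc
  simp at this

end Cfsg.Agent.H635.Spor
end

-- part: H34/SporTool2
section
prune_inst 0x20100000202212000004000242004001530000000003000101060102048480210040a601d280020801000020083100081110001902000000000006004005002080a800020125a10406001f80a803590c00000000000000000000000000000000004010000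
set_option linter.all false
open scoped Cfsg.Agent.FastGrp

/-!
# S4834, sporadic rows: more tools (helper34)

* `frame_pairs` : the list version of `frame_pair`;
* `exists_pair_of_class` : the rank 3 action on a class of transpositions (of an overgroup), with `autInv_fix`;
* `Blk.inv_of_t_one` : all members of the principal block are invariant if there is one exceptional character;
* `good_of_t_one` : one irreducible of `p'`-degree divisible by `l`;
* `good_of_inv` : one invariant character of `p'`-degree `d` and the block for `l`.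
-/

set_option autoImplicit false
set_option linter.unusedSectionVars false

namespace Cfsg.Agent.H34.SporTool

open Cfsg Cfsg.Agent.H635.Spor Cfsg.Agent.Characters.Core Cfsg.Agent.H690.Spor.RankThree
  Cfsg.Agent.SmallSimple.DegreeData Subgroup

universe u v w

/-! ### the list version of Frame's theorem -/

/-- the test at `s` -/
def tstL (N m : ℕ) (L : List (ℕ × ℕ)) (Ms : List ℕ) (s : ℕ) : Bool :=
  if Nat.beq (N % (s * s)) 0 then
    (Nat.ble (m * m + 1) (4 * (N / (s * s))) || !(Ms.all fun M => sqm (m * m - 4 * (N / (s * s))) M)) ||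
      (L.any fun d => Nat.beq (N / (s * s)) (d.1 * d.2))
  else true

theorem tstL_sound {N m s : ℕ} {L : List (ℕ × ℕ)} {Ms : List ℕ} (hMs : ∀ M ∈ Ms, 0 < M)
    (h : tstL N m L Ms s = true) {f g : ℕ} (hs : s ≠ 0) (hfg : f + g = m) (hN : f * g * (s * s) = N) :
    ∃ d ∈ L, f * g = d.1 * d.2 := by
  have hss : 0 < s * s := Nat.mul_pos (Nat.pos_of_ne_zero hs) (Nat.pos_of_ne_zero hs)
  have h1 : N % (s * s) = 0 := by rw [← hN]; exact Nat.mul_mod_left _ _
  have h2 : N / (s * s) = f * g := by rw [← hN]; exact Nat.mul_div_cancel _ hss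
  have h3 : Nat.beq (N % (s * s)) 0 = true := by rw [h1]; rfl
  rw [tstL, if_pos h3, h2, Bool.or_eq_true, Bool.or_eq_true] at h
  have h4 : 4 * (f * g) + (max f g - min f g) * (max f g - min f g) = m * m := by
    rcases le_total f g with hle | hle
    · rw [max_eq_right hle, min_eq_left hle, ← hfg]
      obtain ⟨c, rfl⟩ := Nat.exists_eq_add_of_le hle
      rw [Nat.add_sub_cancel_left]; ring
    · rw [max_eq_left hle, min_eq_right hle, ← hfg]
      obtain ⟨c, rfl⟩ := Nat.exists_eq_add_of_le hle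
      rw [Nat.add_sub_cancel_left]; ring
  rcases h with (h | h) | h
  · exfalso
    have := Nat.le_of_ble_eq_true h
    omega
  · exfalso
    rw [Bool.not_eq_true', ← Bool.not_eq_true, List.all_eq_true] at h
    apply h
    intro M hM
    refine sqm_sound (hMs M hM) ⟨max f g - min f g, ?_⟩
    omega
  · obtain ⟨d, hd, hd'⟩ := List.any_eq_true.1 h
    exact ⟨d, hd, Nat.eq_of_beq_eq_true hd'⟩

section

variable {G X : Type*} [Group G] [MulAction G X] {R : X → X → Prop} {k l : ℕ}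

/-- **The degrees of a rank 3 permutation character**, several possibilities. -/
theorem frame_pairs [Finite G] (h : R3 G X R k l) (L : List (ℕ × ℕ)) (hd : ∀ d ∈ L, d.1 + d.2 = k + l) (Ms : List ℕ)
    (hMs : ∀ M ∈ Ms, 0 < M) (a : ℕ) (ha : (1 + k + l) * k * l < (k + l - 1) * (2 ^ a * 2 ^ a))
    (hne : ∀ f, f + f = k + l → ¬ f ∣ (1 + k + l) * k * l)
    (hc : allP (tstL ((1 + k + l) * k * l) (k + l) L Ms) a 0 = true) :
    ∃ d ∈ L, ∃ χ₁ χ₂ : IrrCharacter G, charDegree (χ₁ : G → ℂ) = d.1 ∧ charDegree (χ₂ : G → ℂ) = d.2 ∧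
      ∀ x : G, (Nat.card (MulAction.fixedBy X x) : ℂ) = 1 + (χ₁ : G → ℂ) x + (χ₂ : G → ℂ) x := by
  classical
  have hfin : Finite X := by
    by_contra hcon
    rw [not_finite_iff_infinite] at hcon
    have h1 := h.cardn
    rw [Nat.card_eq_zero_of_infinite] at h1
    omega
  have := Fintype.ofFinite X
  obtain ⟨χ₁, χ₂, f, g, D, hf, hg, hπ, hfg, hprod, hsq⟩ := h.frame
  have hn0 : 0 < (1 + k + l) * k * l := by
    have := h.k0; have := h.l0; positivity
  have hfg' : f ≠ g := by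
    rintro rfl
    exact hne f hfg ⟨f * D, by rw [← hprod]; ring⟩
  obtain ⟨s, hs⟩ := hsq hfg'
  rw [hs] at hprod
  have hs0 : s ≠ 0 := by
    rintro rfl
    rw [mul_zero, mul_zero] at hprod
    omega
  have hf0 : f ≠ 0 := by rintro rfl; rw [zero_mul, zero_mul] at hprod; omega
  have hg0 : g ≠ 0 := by rintro rfl; rw [mul_zero, zero_mul] at hprod; omega
  have hs2 : s < 2 ^ a := by
    by_contra hcon
    push Not at hcon
    have h1 : 2 ^ a * 2 ^ a ≤ s * s := Nat.mul_le_mul hcon hcon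
    have h2 : k + l - 1 ≤ f * g := by
      rw [← hfg]
      obtain ⟨f', rfl⟩ := Nat.exists_eq_succ_of_ne_zero hf0
      obtain ⟨g', rfl⟩ := Nat.exists_eq_succ_of_ne_zero hg0
      simp only [Nat.succ_eq_add_one]
      have h4 : (f' + 1) * (g' + 1) = f' * g' + f' + g' + 1 := by ring
      rw [h4]
      have h5 := Nat.zero_le (f' * g')
      omega
    have h3 : (k + l - 1) * (2 ^ a * 2 ^ a) ≤ f * g * (s * s) := Nat.mul_le_mul h2 h1
    omega
  obtain ⟨d, hdL, key⟩ := tstL_sound hMs (allP_sound a 0 hc s (Nat.zero_le _) (by omega)) hs0 hfg hprod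
  have hdf : charDegree (χ₁ : G → ℂ) = f := Cfsg.Agent.Blocks.Basic.charDegree_of_eq hf
  have hdg : charDegree (χ₂ : G → ℂ) = g := Cfsg.Agent.Blocks.Basic.charDegree_of_eq hg
  refine ⟨d, hdL, ?_⟩
  rcases pair_of_mul (hfg.trans (hd d hdL).symm) key with ⟨h1, h2⟩ | ⟨h1, h2⟩
  · exact ⟨χ₁, χ₂, hdf.trans h1, hdg.trans h2, hπ⟩
  · exact ⟨χ₂, χ₁, hdg.trans h2, hdf.trans h1, fun x => by rw [hπ x]; ring⟩

end

/-! ### the action on a class -/

section Cls

variable {G : Type u} [Group G] {H : Type v} [Group H] (φ : G →* H) {T : Set H}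

/-- the number of elements of `T` fixed by `x` -/
noncomputable def fixT (T : Set H) (x : G) : ℂ := (Nat.card {t : T // φ x * (t : H) * (φ x)⁻¹ = t} : ℂ)

/-- **The rank three characters of the action on a class.** -/
theorem exists_pair_of_class [Finite G] (hconj : ∀ t ∈ T, ∀ g : G, φ g * t * (φ g)⁻¹ ∈ T) {k l : ℕ}
    (hk : 0 < k) (hl : 0 < l) (hcard : T.ncard = 1 + k + l)
    (hlink : ∀ d ∈ T, {c | c ∈ T ∧ c ≠ d ∧ d * c = c * d}.ncard = k)
    (hC : ∀ a ∈ T, ∀ b ∈ T, ∀ a' ∈ T, ∀ b' ∈ T, a ≠ b → a' ≠ b' → a * b = b * a → a' * b' = b' * a' →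
      ∃ g : G, φ g * a * (φ g)⁻¹ = a' ∧ φ g * b * (φ g)⁻¹ = b')
    (hN : ∀ a ∈ T, ∀ b ∈ T, ∀ a' ∈ T, ∀ b' ∈ T, a * b ≠ b * a → a' * b' ≠ b' * a' →
      ∃ g : G, φ g * a * (φ g)⁻¹ = a' ∧ φ g * b * (φ g)⁻¹ = b')
    (L : List (ℕ × ℕ)) (hd : ∀ d ∈ L, d.1 + d.2 = k + l) (Ms : List ℕ)
    (hMs : ∀ M ∈ Ms, 0 < M) (a : ℕ) (ha : (1 + k + l) * k * l < (k + l - 1) * (2 ^ a * 2 ^ a))
    (hne : ∀ f, f + f = k + l → ¬ f ∣ (1 + k + l) * k * l)
    (hc : allP (tstL ((1 + k + l) * k * l) (k + l) L Ms) a 0 = true) :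
    ∃ d ∈ L, ∃ χ₁ χ₂ : IrrCharacter G, charDegree (χ₁ : G → ℂ) = d.1 ∧ charDegree (χ₂ : G → ℂ) = d.2 ∧
      ∀ x : G, fixT φ T x = 1 + (χ₁ : G → ℂ) x + (χ₂ : G → ℂ) x := by
  classical
  let act : MulAction G T :=
    { smul := fun g t => ⟨φ g * t * (φ g)⁻¹, hconj t t.2 g⟩
      one_smul := fun t => Subtype.ext (by
        show φ 1 * (t : H) * (φ 1)⁻¹ = t
        rw [map_one, one_mul, inv_one, mul_one])
      mul_smul := fun g h t => Subtype.ext (by
        show φ (g * h) * (t : H) * (φ (g * h))⁻¹ = φ g * (φ h * t * (φ h)⁻¹) * (φ g)⁻¹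
        rw [map_mul]; group) }
  have hsm : ∀ (g : G) (t : T), ((g • t : T) : H) = φ g * t * (φ g)⁻¹ := fun _ _ => rfl
  have hex : ∀ d ∈ T, ∃ c ∈ T, c ≠ d ∧ d * c = c * d := by
    intro d hd
    have h1 := hlink d hd
    have h2 : {c | c ∈ T ∧ c ≠ d ∧ d * c = c * d}.Nonempty := Set.nonempty_of_ncard_ne_zero (by omega)
    obtain ⟨c, h3, h4, h5⟩ := h2
    exact ⟨c, h3, h4, h5⟩
  have hR : R3 G T (fun x y => (x : H) ≠ y ∧ (x : H) * y = y * x) k l :=
    { trans := ⟨fun x y => by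
        obtain ⟨c, hc1, hc2, hc3⟩ := hex x x.2
        obtain ⟨c', hc1', hc2', hc3'⟩ := hex y y.2
        obtain ⟨g, hg, -⟩ := hC x x.2 c hc1 y y.2 c' hc1' hc2.symm hc2'.symm hc3 hc3'
        exact ⟨g, Subtype.ext hg⟩⟩
      symm := fun x y h => ⟨h.1.symm, h.2.symm⟩
      irr := fun x h => h.1 rfl
      inv := fun g x y h => by
        show φ g * (x : H) * (φ g)⁻¹ ≠ φ g * (y : H) * (φ g)⁻¹ ∧
          φ g * (x : H) * (φ g)⁻¹ * (φ g * (y : H) * (φ g)⁻¹) = φ g * (y : H) * (φ g)⁻¹ * (φ g * (x : H) * (φ g)⁻¹)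
        refine ⟨fun h1 => h.1 (mul_left_cancel (mul_right_cancel h1)), ?_⟩
        have e1 : φ g * (x : H) * (φ g)⁻¹ * (φ g * (y : H) * (φ g)⁻¹) = φ g * ((x : H) * y) * (φ g)⁻¹ := by group
        have e2 : φ g * (y : H) * (φ g)⁻¹ * (φ g * (x : H) * (φ g)⁻¹) = φ g * ((y : H) * x) * (φ g)⁻¹ := by group
        rw [e1, e2, h.2]
      one := fun x y x' y' h h' => by
        obtain ⟨g, h1, h2⟩ := hC x x.2 y y.2 x' x'.2 y' y'.2 h.1 h'.1 h.2 h'.2
        exact ⟨g, Subtype.ext h1, Subtype.ext h2⟩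
      two := fun x y x' y' h h0 h' h0' => by
        have e1 : ∀ {x y : T}, x ≠ y → ¬ ((x : H) ≠ y ∧ (x : H) * y = y * x) → (x : H) * y ≠ y * x := by
          intro x y h h0 h1
          exact h0 ⟨fun h2 => h (Subtype.ext h2), h1⟩
        obtain ⟨g, h1, h2⟩ := hN x x.2 y y.2 x' x'.2 y' y'.2 (e1 h h0) (e1 h' h0')
        exact ⟨g, Subtype.ext h1, Subtype.ext h2⟩
      cardk := fun x => by
        rw [← hlink x x.2, ← Nat.card_coe_set_eq]
        refine Nat.card_congr ⟨fun y => ⟨y.1.1, y.1.2, y.2.1.symm, y.2.2⟩, fun c => ⟨⟨c.1, c.2.1⟩, c.2.2.1.symm, c.2.2.2⟩,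
          fun y => rfl, fun c => rfl⟩
      k0 := hk
      l0 := hl
      cardn := by rw [Nat.card_coe_set_eq, hcard] }
  obtain ⟨d, hdL, χ₁, χ₂, h1, h2, h3⟩ := frame_pairs hR L hd Ms hMs a ha hne hc
  refine ⟨d, hdL, χ₁, χ₂, h1, h2, fun x => ?_⟩
  rw [← h3 x, fixT]
  congr 1
  refine Nat.card_congr (Equiv.subtypeEquivRight fun t => ?_)
  show φ x * (t : H) * (φ x)⁻¹ = t ↔ x • t = t
  rw [← hsm, Subtype.ext_iff]

/-- The number of fixed points is invariant under automorphisms. -/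
theorem autInv_fixT (h : ∀ σ : MulAut G, ∃ τ : H ≃* H, (∀ x, φ (σ x) = τ (φ x)) ∧ ∀ t, t ∈ T ↔ τ t ∈ T) :
    AutInv (fixT φ T) := by
  intro σ x
  obtain ⟨τ, h1, h2⟩ := h σ
  unfold fixT
  congr 1
  symm
  refine Nat.card_congr ⟨fun t => ⟨⟨τ t.1.1, (h2 _).1 t.1.2⟩, ?_⟩, fun t => ⟨⟨τ.symm t.1.1, (h2 _).2 ?_⟩, ?_⟩, ?_, ?_⟩
  · show φ (σ x) * τ t.1.1 * (φ (σ x))⁻¹ = τ t.1.1
    have e := congrArg τ t.2
    rw [map_mul, map_mul, map_inv, ← h1] at e
    exact e
  · rw [τ.apply_symm_apply]; exact t.1.2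
  · show φ x * τ.symm t.1.1 * (φ x)⁻¹ = τ.symm t.1.1
    apply τ.injective
    rw [map_mul, map_mul, map_inv, τ.apply_symm_apply, ← h1]
    exact t.2
  · intro t
    exact Subtype.ext (Subtype.ext (τ.symm_apply_apply _))
  · intro t
    exact Subtype.ext (Subtype.ext (τ.apply_symm_apply _))

end Cls

/-! ### blocks with one exceptional character -/

section Blk1

variable {l : ℕ} [hl : Fact l.Prime] {S : Type u} [Group S] [Finite S] (K : Blk l S)

theorem inv_of_t_one (h : Hyp S) (hl2 : l ≠ 2) (ht : K.t = 1) {Θ : IrrCharacter S} (hΘ : Θ ∈ K.B.X) :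
    AutInv (Θ : S → ℂ) := by
  intro σ s
  have hcard : K.B.X.card = 1 := by rw [K.B.card_X, ht]
  obtain ⟨Θ₀, hX⟩ := Finset.card_eq_one.1 hcard
  obtain ⟨ψ, hψ⟩ : ∃ ψ : IrrCharacter S, (ψ : S → ℂ) = (Θ : S → ℂ) ∘ σ :=
    ⟨⟨(Θ : S → ℂ) ∘ σ, isIrr_comp σ.toMonoidHom σ.surjective Θ.2⟩, rfl⟩
  have hblk : ψ ∈ principalBlock K.M S := by
    have h1 := principal_equiv (M := K.M) (S := S) (T := S) σ ((K.B.mem_block Θ).2 (Or.inr hΘ))
    have h2 : ψ = ⟨(Θ : S → ℂ) ∘ σ, isIrr_comp σ.toMonoidHom σ.surjective Θ.2⟩ := Subtype.ext hψ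
    rw [h2]
    exact h1
  rcases (K.B.mem_block ψ).1 hblk with h1 | h1
  · exfalso
    have h2 : AutInv (ψ : S → ℂ) := inv_of_nonexc h.center_eq_bot h.out hl2 K.hM K.hP K.B h1
    have h3 : ψ = Θ := by
      apply Subtype.ext
      funext x
      have h4 := h2 σ⁻¹ x
      rw [← h4, hψ]
      show (Θ : S → ℂ) (σ (σ⁻¹ x)) = (Θ : S → ℂ) x
      rw [MulAut.apply_inv_self]
    rw [h3] at h1
    exact K.B.notMem_X _ h1 hΘ
  · rw [hX, Finset.mem_singleton] at h1 hΘ
    have h2 : (ψ : S → ℂ) s = (Θ : S → ℂ) s := by rw [h1, hΘ]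
    rw [← h2, hψ]
    rfl

/-- a member of the block of degree prime to `p` -/
theorem exists_mem_of_not_dvd {p : ℕ} (hp : 1 < p) (hall : ∀ χ ∈ K.B.l, p ∣ charDegree (χ : S → ℂ)) :
    K.B.dexc ≡ 1 [ZMOD p] := by
  have h3 := K.B.dexc_eq K.ht
  have h6 : (p : ℤ) ∣ K.B.degs.sum := dvd_sum_of fun z hz => by
    obtain ⟨χ, hχ, hz'⟩ := K.natAbs_of_mem_degs hz
    rw [← Int.dvd_natAbs, ← hz']
    exact_mod_cast hall χ hχ
  rw [← h3]
  have := (Int.modEq_zero_iff_dvd.2 h6).add_left 1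
  simpa using this

theorem not_dvd_of_modEq_one {p : ℕ} (hp : 1 < p) {x : ℤ} (h7 : x ≡ 1 [ZMOD p]) : ¬ (p : ℤ) ∣ x := by
  intro h
  have h9 : (1 : ℤ) ≡ 0 [ZMOD p] := h7.symm.trans (Int.modEq_zero_iff_dvd.2 h)
  have h10 := Int.modEq_zero_iff_dvd.1 h9
  have h11 := Int.le_of_dvd one_pos h10
  have : (1 : ℤ) < p := by exact_mod_cast hp
  omega

/-- **One irreducible character of `p'`-degree divisible by `l`**, `t = 1`. -/
theorem good_of_t_one (h : Hyp S) (hl2 : l ≠ 2) (ht : K.t = 1) {p : ℕ} (hp : p.Prime) (hp2 : p ≠ 2)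
    {χ : IrrCharacter S} (hχ : Nt χ) (hχp : ¬ p ∣ charDegree (χ : S → ℂ)) (hχl : l ∣ charDegree (χ : S → ℂ)) :
    H687.Good p S := by
  by_contra hng
  by_cases hall : ∀ ψ ∈ K.B.l, p ∣ charDegree (ψ : S → ℂ)
  · obtain ⟨Θ, hΘ⟩ := K.B.exists_X K.ht
    have h1 := exists_mem_of_not_dvd K hp.one_lt hall
    have h2 : ¬ p ∣ charDegree (Θ : S → ℂ) := by
      intro h3
      apply not_dvd_of_modEq_one hp.one_lt h1
      rw [← Int.dvd_natAbs, K.B.natAbs_dexc, ← K.B.deg_X Θ hΘ]
      exact_mod_cast h3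
    have h3 := dvd_of_not_good h hp hp2 hng (K.nt_of_mem_X hΘ) hχ h2 hχp (inv_of_t_one K h hl2 ht hΘ)
    have h4 : (l : ℤ) ∣ K.B.dexc := by
      rw [← Int.dvd_natAbs, K.B.natAbs_dexc, ← K.B.deg_X Θ hΘ]
      exact_mod_cast hχl.trans h3
    have h5 : (l : ℤ) ∣ (K.e : ℤ) :=
      Int.modEq_zero_iff_dvd.1 ((K.B.dexc_modEq K.hP K.ht).symm.trans (Int.modEq_zero_iff_dvd.2 h4))
    have h6 : l ∣ K.e := by exact_mod_cast h5
    have h7 := Nat.le_of_dvd (Nat.pos_of_ne_zero K.e_ne_zero) h6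
    have h8 := K.ht
    rw [ht, mul_one] at h8
    have := hl.out.one_lt
    omega
  · push Not at hall
    obtain ⟨ψ, hψ, hψp⟩ := hall
    have h3 := dvd_of_not_good h hp hp2 hng (K.nt_of_mem_l hψ) hχ hψp hχp (K.inv_of_mem_l h hl2 hψ)
    have h4 : (l : ℤ) ∣ K.B.sd ψ := by
      rw [← Int.dvd_natAbs, K.B.natAbs_sd (List.mem_cons_of_mem _ hψ)]
      exact_mod_cast hχl.trans h3
    have h5 : (l : ℤ) ∣ 1 :=
      Int.modEq_zero_iff_dvd.1 ((K.B.sd_modEq K.hP (List.mem_cons_of_mem _ hψ)).symm.trans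
        (Int.modEq_zero_iff_dvd.2 h4))
    have h6 : l ∣ 1 := by exact_mod_cast h5
    exact hl.out.one_lt.ne' (Nat.dvd_one.1 h6)

/-- The condition for the exceptional degree `x` if the invariant `p'`-characters have degree `d`. -/
def Ex (p l e d x : ℕ) : Prop :=
  x ∣ d ∧ x ≠ 1 ∧ (e = l - 1 → x = d) ∧ (((x : ℤ) ≡ e [ZMOD l] ∧ (x : ℤ) ≡ 1 [ZMOD p]) ∨
    ((x : ℤ) ≡ -e [ZMOD l] ∧ (x : ℤ) ≡ -1 [ZMOD p]))

/-- **One invariant character of degree prime to `p`** -/
theorem of_inv (h : Hyp S) (hl2 : l ≠ 2) {p : ℕ} (hp : p.Prime) (hp2 : p ≠ 2) (hng : ¬ H687.Good p S)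
    {α : IrrCharacter S} (hα : Nt α) (hαi : AutInv (α : S → ℂ)) (hαp : ¬ p ∣ charDegree (α : S → ℂ)) :
    (charDegree (α : S → ℂ) : ℤ) ≡ 1 [ZMOD l] ∨ (charDegree (α : S → ℂ) : ℤ) ≡ -1 [ZMOD l] ∨
      ∃ x, Ex p l K.e (charDegree (α : S → ℂ)) x := by
  by_cases hall : ∀ ψ ∈ K.B.l, p ∣ charDegree (ψ : S → ℂ)
  · right; right
    obtain ⟨Θ, hΘ⟩ := K.B.exists_X K.ht
    have h1 := exists_mem_of_not_dvd K hp.one_lt hall
    have h2 : ¬ p ∣ charDegree (Θ : S → ℂ) := by
      intro h3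
      apply not_dvd_of_modEq_one hp.one_lt h1
      rw [← Int.dvd_natAbs, K.B.natAbs_dexc, ← K.B.deg_X Θ hΘ]
      exact_mod_cast h3
    refine ⟨charDegree (Θ : S → ℂ), dvd_of_not_good h hp hp2 hng hα (K.nt_of_mem_X hΘ) hαp h2 hαi,
      h.deg_ne_one (K.nt_of_mem_X hΘ), fun he => ?_, ?_⟩
    · have ht : K.t = 1 := by
        have h3 := K.ht
        rw [he] at h3
        have := hl.out.one_lt
        exact Nat.eq_of_mul_eq_mul_left (by omega : 0 < l - 1) (by rw [h3, mul_one])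
      exact eq_of_not_good h hp hp2 hng hα (K.nt_of_mem_X hΘ) hαp h2 hαi (inv_of_t_one K h hl2 ht hΘ)
    · have h3 := K.B.dexc_modEq K.hP K.ht
      rcases eq_or_neg_of_natAbs ((K.B.natAbs_dexc).trans (K.B.deg_X Θ hΘ).symm) with h9 | h9
      · left
        rw [← h9]
        exact ⟨h3, h1⟩
      · right
        have h10 : (charDegree (Θ : S → ℂ) : ℤ) = -K.B.dexc := by rw [h9, neg_neg]
        rw [h10]
        exact ⟨h3.neg, h1.neg⟩
  · push Not at hall
    obtain ⟨ψ, hψ, hψp⟩ := hall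
    have h3 := eq_of_not_good h hp hp2 hng hα (K.nt_of_mem_l hψ) hαp hψp hαi (K.inv_of_mem_l h hl2 hψ)
    have h4 := K.B.sd_modEq K.hP (List.mem_cons_of_mem _ hψ)
    have h5 := K.B.natAbs_sd (List.mem_cons_of_mem _ hψ)
    rw [h3] at h5
    rcases eq_or_neg_of_natAbs h5 with h6 | h6
    · left; rw [← h6]; exact h4
    · right; left
      have h7 : (charDegree (α : S → ℂ) : ℤ) = -K.B.sd ψ := by rw [h6, neg_neg]
      rw [h7]
      exact h4.neg

end Blk1

/-! ### the boolean test -/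

/-- the test for `x` -/
def exB (p l d : ℕ) (E : List ℕ) (x : ℕ) : Bool :=
  Nat.beq x 1 || E.all fun e => (Nat.beq e (l - 1) && !(Nat.beq x d)) ||
    !((Nat.beq (x % l) (e % l) && Nat.beq (x % p) 1) || (Nat.beq ((x + e) % l) 0 && Nat.beq ((x + 1) % p) 0))

theorem exB_sound {p l d e x : ℕ} {E : List ℕ} (hp : 1 < p) (he : e ∈ E) (h : exB p l d E x = true) :
    ¬ Ex p l e d x := by
  rintro ⟨-, h1, h2, h3⟩
  rw [exB, Bool.or_eq_true] at h
  rcases h with h | h
  · exact h1 (Nat.eq_of_beq_eq_true h)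
  · have h4 := List.all_eq_true.1 h e he
    have e1 : ∀ {m a b : ℕ}, (a : ℤ) ≡ b [ZMOD m] → a % m = b % m := fun h => (Int.natCast_modEq_iff.1 h)
    have e2 : ∀ {m a b : ℕ}, (a : ℤ) ≡ -b [ZMOD m] → (a + b) % m = 0 := by
      intro m a b h
      have h1 : ((a + b : ℕ) : ℤ) ≡ ((0 : ℕ) : ℤ) [ZMOD m] := by
        have := h.add_right (b : ℤ)
        simpa using this
      have := e1 h1
      simpa using this
    rw [Bool.or_eq_true, Bool.and_eq_true] at h4
    rcases h4 with ⟨h4, h5⟩ | h4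
    · rw [h2 (Nat.eq_of_beq_eq_true h4)] at h5
      simp at h5
    · have hp1 : 1 % p = 1 := Nat.mod_eq_of_lt hp
      rcases h3 with ⟨h6, h7⟩ | ⟨h6, h7⟩
      · have h8 := e1 (m := l) (a := x) (b := e) h6
        have h9 := e1 (m := p) (a := x) (b := 1) (by simpa using h7)
        rw [hp1] at h9
        simp [h8, h9] at h4
      · have h8 := e2 (m := l) (a := x) (b := e) h6
        have h9 := e2 (m := p) (a := x) (b := 1) (by simpa using h7)
        simp [h8, h9] at h4

/-- A test for all divisors of the number with the given factorization. -/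
theorem allD_dvd {f : ℕ → Bool} (F : List (ℕ × ℕ)) (hFp : ∀ x ∈ F, x.1.Prime) (hFe : exact F (val F) = true)
    (h : allD f F 1 = true) {x : ℕ} (hx : x ∣ val F) : f x = true := by
  have hex : ∀ y ∈ F, ¬ y.1 ^ (y.2 + 1) ∣ val F := by
    intro y hy hd
    have h1 := List.all_eq_true.1 hFe y hy
    rw [Bool.and_eq_true] at h1
    have h2 := h1.2
    rw [Nat.mod_eq_zero_of_dvd hd] at h2
    simp at h2
  have hv0 : val F ≠ 0 := by
    rw [val]
    apply List.prod_ne_zero
    intro h0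
    obtain ⟨y, hy, hy0⟩ := List.mem_map.1 h0
    exact pow_ne_zero _ (hFp y hy).ne_zero hy0
  have := allD_sound (f := f) F 1 x hFp (fun h0 => hv0 (Nat.eq_zero_of_zero_dvd (h0 ▸ hx)))
    (fun r hr hrx => mem_of_prime_dvd_val hFp hr (hrx.trans hx))
    (fun y hy hyd => hex y hy (hyd.trans hx)) h
  rwa [one_mul] at this

/-- **`Good` from one invariant character and one block.** `F` is the factorization of the degree. -/
theorem good_of_inv {S : Type u} [Group S] (h : Hyp S) [Finite S] {l : ℕ} [hl : Fact l.Prime] (hl2 : l ≠ 2)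
    (K : Blk l S) {p : ℕ} (hp : p.Prime) (hp2 : p ≠ 2)
    {α : IrrCharacter S} (hα : Nt α) (hαi : AutInv (α : S → ℂ)) {d : ℕ} (hd : charDegree (α : S → ℂ) = d)
    (hdp : ¬ p ∣ d) (h1 : d % l ≠ 1) (h2 : (d + 1) % l ≠ 0) (F : List (ℕ × ℕ)) (hFp : ∀ x ∈ F, x.1.Prime)
    (hFd : val F = d) (hFe : exact F d = true) (E : List ℕ) (hE : K.e ∈ E) (hc : allD (exB p l d E) F 1 = true) :
    H687.Good p S := by
  by_contra hng
  have e1 : ∀ {m a b : ℕ}, (a : ℤ) ≡ b [ZMOD m] → a % m = b % m := fun h => (Int.natCast_modEq_iff.1 h)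
  rcases of_inv K h hl2 hp hp2 hng hα hαi (by rw [hd]; exact hdp) with h3 | h3 | ⟨x, hx⟩
  · rw [hd] at h3
    apply h1
    have := e1 (m := l) (a := d) (b := 1) (by simpa using h3)
    rwa [Nat.mod_eq_of_lt hl.out.one_lt] at this
  · rw [hd] at h3
    apply h2
    have h4 : ((d + 1 : ℕ) : ℤ) ≡ ((0 : ℕ) : ℤ) [ZMOD l] := by
      have := h3.add_right (1 : ℤ)
      simpa using this
    have := e1 h4
    simpa using this
  · rw [hd] at hx
    exact exB_sound hp.one_lt hE (allD_dvd F hFp (by rw [hFd]; exact hFe) hc (by rw [hFd]; exact hx.1)) hx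

end Cfsg.Agent.H34.SporTool

private theorem dce_4cdebd0fece5 : _root_.True := by
  try have : _root_.True := by simp only [_root_.Cfsg.Agent.H34.SporTool.tstL.eq_1]
  try have : _root_.True := by simp only [_root_.Cfsg.Agent.H34.SporTool.exB.eq_1]
  try have : _root_.True := by simp only [_root_.Cfsg.Agent.H34.SporTool.fixT.eq_1]
  exact _root_.True.intro
end

-- part: H635/SporFast
section
set_option linter.all false
open scoped Cfsg.Agent.FastGrp

/-!
# A faster form of the sieve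

The residues allowed modulo `l` are stored as bits of three masks (the degree is `1`, `-1` or something else modulo `p`);
products whose square is at least the group order are not visited.
-/

set_option autoImplicit false
set_option linter.unusedSectionVars false

namespace Cfsg.Agent.H635.Spor

open Cfsg Cfsg.Agent.Characters.Core Cfsg.Agent.SmallSimple.DegreeData Subgroup

universe u

/-- evaluate the argument before going on -/
def force {α : Type} (n : ℕ) (k : ℕ → α) : α :=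
  Nat.rec (motive := fun _ => α) (k 0) (fun m _ => k (Nat.succ m)) n

theorem force_eq {α : Type} (n : ℕ) (k : ℕ → α) : force n k = k n := by
  cases n <;> rfl

/-- `g` at `acc * q ^ i` for all `i ≤ a` with `(acc * q ^ i) ^ 2 < N` -/
def pw (N q : ℕ) (g : ℕ → Bool) : ℕ → ℕ → Bool
  | 0, acc => g acc
  | a + 1, acc => g acc && force (Nat.mul acc q) fun acc' => Nat.ble N (Nat.mul acc' acc') || pw N q g a acc'

theorem pw_sound {N q : ℕ} (hq : 0 < q) {g : ℕ → Bool} : ∀ {a acc : ℕ}, pw N q g a acc = true → ∀ i ≤ a,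
    acc * q ^ i * (acc * q ^ i) < N → g (acc * q ^ i) = true
  | 0, acc, h, i, hi, _ => by
    obtain rfl : i = 0 := by omega
    simpa [pw] using h
  | a + 1, acc, h, i, hi, hlt => by
    rw [pw, Bool.and_eq_true, force_eq] at h
    rcases i with _ | i
    · simpa using h.1
    · have e : acc * q ^ (i + 1) = acc * q * q ^ i := by ring
      rw [e] at hlt ⊢
      have h2 := h.2
      rw [Bool.or_eq_true] at h2
      rcases h2 with h3 | h3
      · exfalso
        have h4 : N ≤ acc * q * (acc * q) := Nat.le_of_ble_eq_true h3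
        have h5 : 1 ≤ q ^ i := Nat.one_le_pow _ _ hq
        have h6 : acc * q ≤ acc * q * q ^ i := Nat.le_mul_of_pos_right _ h5
        have h7 := Nat.mul_le_mul h6 h6
        omega
      · exact pw_sound hq h3 i (by omega) hlt

/-- `f` at all products -/
def allF (N : ℕ) (f : ℕ → Bool) : List (ℕ × ℕ) → ℕ → Bool
  | [], acc => f acc
  | x :: L, acc => pw N x.1 (allF N f L) x.2 acc

theorem allF_sound {N : ℕ} {f : ℕ → Bool} : ∀ (L : List (ℕ × ℕ)) (acc d : ℕ), (∀ x ∈ L, x.1.Prime) → d ≠ 0 →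
    (∀ r : ℕ, r.Prime → r ∣ d → r ∈ L.map Prod.fst) → (∀ x ∈ L, ¬ x.1 ^ (x.2 + 1) ∣ d) → allF N f L acc = true →
    acc * d * (acc * d) < N → f (acc * d) = true
  | [], acc, d, _, hd, h, _, hc, _ => by
    have : d = 1 := by
      by_contra hne
      obtain ⟨r, hr, hrd⟩ := Nat.exists_prime_and_dvd hne
      simpa using h r hr hrd
    rw [this, mul_one]
    exact hc
  | x :: L, acc, d, hL, hd, h, h', hc, hlt => by
    have hx := hL x List.mem_cons_self
    obtain ⟨i, m, hm, him⟩ := Nat.exists_eq_pow_mul_and_not_dvd (Nat.pos_of_ne_zero hd |> fun h => h.ne') x.1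
      hx.one_lt.ne'
    have hm0 : 1 ≤ m := Nat.pos_of_ne_zero (by rintro rfl; exact hm (dvd_zero _))
    have hi : i ≤ x.2 := by
      by_contra hcon
      push Not at hcon
      apply h' x List.mem_cons_self
      rw [him]
      exact (pow_dvd_pow _ hcon).trans (dvd_mul_right _ _)
    have hmd : m ∣ d := him ▸ dvd_mul_left _ _
    have e : acc * d = acc * x.1 ^ i * m := by rw [him, mul_assoc]
    have hle : acc * x.1 ^ i ≤ acc * x.1 ^ i * m := Nat.le_mul_of_pos_right _ hm0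
    rw [e] at hlt ⊢
    have h1 := pw_sound hx.pos (show pw N x.1 (allF N f L) x.2 acc = true from hc) i hi
      (lt_of_le_of_lt (Nat.mul_le_mul hle hle) hlt)
    exact allF_sound L (acc * x.1 ^ i) m (fun y hy => hL y (List.mem_cons_of_mem _ hy))
      (by rintro rfl; exact hm (dvd_zero _)) (fun r hr hrm => by
        have := h r hr (hrm.trans hmd)
        rw [List.map_cons, List.mem_cons] at this
        rcases this with h3 | h3
        · exact absurd (h3 ▸ hrm) hm
        · exact h3) (fun y hy hyd => h' y (List.mem_cons_of_mem _ hy) (hyd.trans hmd)) h1 hlt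

/-- a row of the table: the prime and the three masks -/
structure TRow where
  l : ℕ
  m0 : ℕ
  m1 : ℕ
  m2 : ℕ

/-- bit of a mask -/
def bit (m i : ℕ) : Bool := Nat.beq (Nat.land (Nat.shiftRight m i) 1) 1

/-- the masks contain what is allowed -/
def TRow.ok (x : TRow) (es : List ℕ) : Bool :=
  bit x.m0 1 && (bit x.m0 (x.l - 1) && (bit x.m1 1 && (bit x.m1 (x.l - 1) && (bit x.m2 1 && (bit x.m2 (x.l - 1) &&
    es.all fun e => bit x.m1 (e % x.l) && bit x.m2 ((x.l - e % x.l) % x.l))))))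

/-- the test, `c = 0`: the degree is `1` modulo `p`, `c = 1`: it is `-1`, else: neither -/
def passes (c d : ℕ) (x : TRow) : Bool :=
  bit (Nat.rec (motive := fun _ => ℕ) x.m1 (fun c' _ => Nat.rec (motive := fun _ => ℕ) x.m2 (fun _ _ => x.m0) c') c)
    (Nat.mod d x.l)

/-- the class of `d` -/
def cls (p d : ℕ) : ℕ :=
  bif Nat.beq (Nat.mod d p) 1 then 0 else bif Nat.beq (Nat.mod d p) (Nat.sub p 1) then 1 else 2

/-- the test for `d` -/
def tstF (p : ℕ) (tb : List TRow) (surv : List ℕ) (d : ℕ) : Bool :=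
  force (cls p d) fun c => !(tb.all (passes c d)) || (Nat.ble d 1 || surv.any (fun s => Nat.beq s d))

theorem mod_of_add {d l e : ℕ} (hl : 0 < l) (h : (d + e) % l = 0) : d % l = (l - e % l) % l := by
  have h1 := Nat.div_add_mod d l
  have h2 := Nat.div_add_mod e l
  have h3 := Nat.mod_lt d hl
  have h4 := Nat.mod_lt e hl
  have h5 : (d % l + e % l) % l = 0 := by rw [← Nat.add_mod]; exact h
  rcases Nat.eq_zero_or_pos (e % l) with h6 | h6
  · rw [h6, Nat.sub_zero, Nat.mod_self]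
    rw [h6, add_zero, Nat.mod_mod] at h5
    exact h5
  · rw [Nat.mod_eq_of_lt (show l - e % l < l by omega)]
    rcases lt_or_ge (d % l + e % l) l with h7 | h7
    · rw [Nat.mod_eq_of_lt h7] at h5
      omega
    · rw [Nat.mod_eq_sub_mod h7, Nat.mod_eq_of_lt (by omega)] at h5
      omega

theorem passes_of_ok {x : TRow} {es : List ℕ} (hx : x.ok es = true) (hl : 1 < x.l) {p d e : ℕ} (hp : 2 < p)
    (he : e ∈ es) (h : Ok p x.l e d) : passes (cls p d) d x = true := by
  unfold TRow.ok at hx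
  simp only [Bool.and_eq_true, List.all_eq_true] at hx
  obtain ⟨h1, h2, h3, h4, h5, h6, h7⟩ := hx
  have h8 := h7 e he
  have hB := okB_of_ok hl (by omega) h
  unfold okB at hB
  have hbq : ∀ {a b : ℕ}, Nat.beq a b = true ↔ a = b := fun {a b} => ⟨Nat.eq_of_beq_eq_true, fun h => by rw [h]; exact Nat.beq_refl b⟩
  simp only [Bool.or_eq_true, Bool.and_eq_true, hbq] at hB
  have hm : ∀ c, c = 0 ∨ c = 1 ∨ c = 2 → (d % x.l = 1 ∨ d % x.l = x.l - 1) → passes c d x = true := by
    rintro c (rfl | rfl | rfl) (hd | hd) <;> (show bit _ (d % x.l) = true; rw [hd]; assumption)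
  have hcls : cls p d = 0 ∨ cls p d = 1 ∨ cls p d = 2 := by
    unfold cls
    cases Nat.beq (Nat.mod d p) 1 <;> cases Nat.beq (Nat.mod d p) (Nat.sub p 1) <;> simp
  rcases hB with hB | hB | ⟨hB, hB'⟩ | ⟨hB, hB'⟩
  · exact hm _ hcls (Or.inl hB)
  · refine hm _ hcls (Or.inr ?_)
    rw [mod_of_add (by omega) hB, Nat.mod_eq_of_lt hl, Nat.mod_eq_of_lt (by omega)]
  · have hc : cls p d = 0 := by
      unfold cls
      rw [show Nat.mod d p = 1 from hB']
      rfl
    rw [hc]
    show bit x.m1 (d % x.l) = true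
    rw [hB]
    exact h8.1
  · have hc : cls p d = 1 := by
      have h9 : d % p = p - 1 := by
        rw [mod_of_add (by omega) hB', Nat.mod_eq_of_lt (show 1 < p by omega), Nat.mod_eq_of_lt (show p - 1 < p by omega)]
      unfold cls
      rw [show Nat.mod d p = p - 1 from h9]
      have h10 : Nat.beq (p - 1) 1 = false := by
        rw [← Bool.not_eq_true, hbq]
        omega
      rw [h10]
      show (bif Nat.beq (p - 1) (p - 1) then 1 else 2) = 1
      rw [Nat.beq_refl]
      rfl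
    rw [hc]
    show bit x.m2 (d % x.l) = true
    rw [mod_of_add (by omega) hB]
    exact h8.2

/-- the facts on the common degree -/
theorem Flat.facts {S : Type u} [Group S] (h : Hyp S) {p d : ℕ} (hp : p.Prime) (hF : Flat p d S) :
    d ≠ 0 ∧ d ≠ 1 ∧ d ∣ Nat.card S ∧ ¬ p ∣ d ∧ d * d < Nat.card S := by
  have := h.fin
  obtain ⟨q, hq, hqS⟩ := exists_prime_dvd_card h
  obtain ⟨χ, hχ1, hχ2, -⟩ := exists_sing (S := S) hp.one_lt hq hqS
  have hχd := hF χ hχ1 hχ2
  have h1 := h.deg_ne_one hχ1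
  have h2 := sq_lt_card hχ1
  refine ⟨?_, ?_, ?_, ?_, ?_⟩
  · rw [← hχd]; exact deg_ne_zero χ
  · rw [← hχd]; exact h1
  · rw [← hχd]; exact Blocks.Knorr.charDegree_dvd χ.2
  · rw [← hχd]; exact hχ2
  · rw [← hχd]; exact h2

/-- **The fast sieve.** -/
theorem Flat.mem_surv' {S : Type u} [Group S] (h : Hyp S) {p d : ℕ} (hp : p.Prime) (hp2 : 2 < p) (hF : Flat p d S)
    (F : List (ℕ × ℕ)) (N : ℕ) (hN : Nat.card S = N) (hFN : val F = N) (hFp : ∀ x ∈ F, x.1.Prime)
    (hFe : exact F N = true) (tb : List TRow) (hls : ∀ x ∈ tb, x.l.Prime ∧ x.l ≠ 2 ∧ x.l ∣ N ∧ ¬ x.l ^ 2 ∣ N)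
    (hes : ∀ x ∈ tb, ∀ [Fact x.l.Prime] [Finite S] (K : Blk x.l S), ∃ es : List ℕ, K.e ∈ es ∧ x.ok es = true)
    (surv : List ℕ) (hc : allF N (tstF p tb surv) (bnd p F) 1 = true) : d ∈ surv := by
  classical
  have := h.fin
  obtain ⟨hd0, hd1, hdN, hpd, hlt⟩ := hF.facts h hp
  rw [hN] at hdN hlt
  have hex : ∀ x ∈ F, 0 < x.2 ∧ ¬ x.1 ^ (x.2 + 1) ∣ N := by
    intro x hx
    have h1 := List.all_eq_true.1 hFe x hx
    rw [Bool.and_eq_true] at h1
    refine ⟨Nat.le_of_ble_eq_true h1.1, fun hd => ?_⟩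
    have h2 := h1.2
    rw [Nat.mod_eq_zero_of_dvd hd] at h2
    simp at h2
  have hdvd : ∀ x ∈ F, x.1 ∣ N := by
    intro x hx
    rw [← hFN]
    refine (dvd_pow_self x.1 (hex x hx).1.ne').trans ?_
    exact List.dvd_prod (List.mem_map.2 ⟨x, hx, rfl⟩)
  have h1 := allF_sound (f := tstF p tb surv) (bnd p F) 1 d ?_ hd0 ?_ ?_ hc (by rw [one_mul]; exact hlt)
  · rw [one_mul, tstF, force_eq, Bool.or_eq_true, Bool.or_eq_true] at h1
    rcases h1 with h1 | h1 | h1
    · exfalso
      rw [Bool.not_eq_true', List.all_eq_false] at h1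
      obtain ⟨x, hx, hx'⟩ := h1
      apply hx'
      obtain ⟨hl, hl2, hlN, hlN2⟩ := hls x hx
      have : Fact x.l.Prime := ⟨hl⟩
      obtain ⟨K⟩ := exists_blk x.l hl2 S (hN ▸ hlN) (hN ▸ hlN2)
      obtain ⟨es, h2, h3⟩ := hes x hx K
      exact passes_of_ok h3 hl.one_lt hp2 h2 (hF.ok hp.one_lt K)
    · exfalso
      have h2 : d ≤ 1 := Nat.le_of_ble_eq_true h1
      omega
    · obtain ⟨s, hs, hsd⟩ := List.any_eq_true.1 h1
      rw [← Nat.eq_of_beq_eq_true hsd]
      exact hs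
  · intro x hx
    obtain ⟨y, hy, rfl⟩ := List.mem_map.1 hx
    exact hFp y hy
  · intro r hr hrd
    have h2 := mem_of_prime_dvd_val hFp hr (by rw [hFN]; exact hrd.trans hdN)
    rw [bnd, List.map_map]
    exact h2
  · intro x hx
    obtain ⟨y, hy, rfl⟩ := List.mem_map.1 hx
    show ¬ y.1 ^ ((if Nat.beq y.1 p then 0 else y.2 - 1) + 1) ∣ d
    by_cases hyp : y.1 = p
    · rw [if_pos (by rw [hyp]; exact Nat.beq_refl p), zero_add, pow_one, hyp]
      exact hpd
    · rw [if_neg (by simpa using hyp)]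
      rw [Nat.sub_add_cancel (hex y hy).1]
      intro hfull
      exact hF.not_full hp.one_lt (hFp y hy) (by rw [hN]; exact hdvd y hy) (by rw [hN]; exact (hex y hy).2) hfull

end Cfsg.Agent.H635.Spor

private theorem dce_67be0fd2b79a : _root_.True := by
  try have : _root_.True := by simp only [_root_.Cfsg.Agent.H635.Spor.tstF.eq_1]
  try have : _root_.True := by simp only [_root_.Cfsg.Agent.H635.Spor.pw.eq_2]
  try have : _root_.True := by simp only [_root_.Cfsg.Agent.H635.Spor.pw.eq_def]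
  try have : _root_.True := by simp only [_root_.Cfsg.Agent.H635.Spor.pw.eq_1]
  exact _root_.True.intro
end
end
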