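import Cfsg.Agent.H34.SporTool2_m3
import Cfsg.Agent.H34.SporJ2
import Cfsg.Agent.H713.Spor.Small
import Cfsg.Agent.Prune
set_option linter.all false

section
prune_inst 0x7f00000000000000000000000000000000000000000000000000000000000000000000000000000000000000000000000000000000000000000000000000000000000000000000000000000000000000003fffffffffffffffffffffffffffbeffbdffffffff

-- part: H34/SporTool3
section
set_option linter.all false
open scoped Cfsg.Agent.FastGrp

/-!
# S4834, sporadic rows: the sieve for an invariant character (helper34)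

`good_of_invSieve` : `α` is an invariant nontrivial irreducible character of degree `d` prime to `p`; every principal
block for a prime `l` (exactly) dividing the order gives a condition on `d`.
-/

set_option autoImplicit false
set_option linter.unusedSectionVars false

namespace Cfsg.Agent.H34.SporTool

open Cfsg Cfsg.Agent.H635.Spor Cfsg.Agent.Characters.Core Cfsg.Agent.SmallSimple.DegreeData Subgroup

universe u

section

variable {l : ℕ} [hl : Fact l.Prime] {S : Type u} [Group S] [Finite S] (K : Blk l S)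

/-- an invariant character from a block with one exceptional character -/
theorem exists_inv_of_t_one (h : Hyp S) (hl2 : l ≠ 2) (ht : K.t = 1) {p : ℕ} (hp : p.Prime) :
    ∃ α : IrrCharacter S, Nt α ∧ AutInv (α : S → ℂ) ∧ ¬ p ∣ charDegree (α : S → ℂ) := by
  by_cases hall : ∀ ψ ∈ K.B.l, p ∣ charDegree (ψ : S → ℂ)
  · obtain ⟨Θ, hΘ⟩ := K.B.exists_X K.ht
    have h1 := exists_mem_of_not_dvd K hp.one_lt hall
    refine ⟨Θ, K.nt_of_mem_X hΘ, inv_of_t_one K h hl2 ht hΘ, ?_⟩
    intro h3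
    apply not_dvd_of_modEq_one hp.one_lt h1
    rw [← Int.dvd_natAbs, K.B.natAbs_dexc, ← K.B.deg_X Θ hΘ]
    exact_mod_cast h3
  · push Not at hall
    obtain ⟨ψ, hψ, hψp⟩ := hall
    exact ⟨ψ, K.nt_of_mem_l hψ, K.inv_of_mem_l h hl2 hψ, hψp⟩

/-- `K.e ∈ E` from an element of order `l` conjugate to its power `k` -/
theorem mem_of_pow (h : Hyp S) {k : ℕ} (he : orderOf (k : ZMod l) ∣ K.e) {E : List ℕ}
    (hE : ∀ e ∈ dvs l, k ^ e % l = 1 → e ∈ E) : K.e ∈ E := by
  refine hE _ (mem_dvs (K.one_lt_e h) K.ht hl.out.one_lt) ?_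
  rw [orderOf_dvd_iff_pow_eq_one] at he
  have h1 : ((k ^ K.e : ℕ) : ZMod l) = ((1 : ℕ) : ZMod l) := by
    rw [Nat.cast_pow, Nat.cast_one]; exact he
  have h2 := (ZMod.natCast_eq_natCast_iff' _ _ l).1 h1
  rwa [Nat.mod_eq_of_lt hl.out.one_lt] at h2

end

/-- the test for `d` -/
def invT (p : ℕ) (F : List (ℕ × ℕ)) (ls : List (ℕ × List ℕ)) (d : ℕ) : Bool :=
  Nat.ble d 1 || ls.any fun y => !(Nat.beq (d % y.1) 1) && (!(Nat.beq ((d + 1) % y.1) 0) &&
    ((y.2.all fun e => Nat.beq e (y.1 - 1)) ||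
      allD (fun x => !(Nat.beq (d % x) 0) || exB p y.1 d y.2 x) F 1))

theorem beq_false {a b : ℕ} (h : a ≠ b) : Nat.beq a b = false := by
  cases hb : Nat.beq a b
  · rfl
  · exact absurd (Nat.eq_of_beq_eq_true hb) h

theorem exB_of_all {p l d x : ℕ} {E : List ℕ} (hl : 1 < l) (h1 : d % l ≠ 1) (h2 : (d + 1) % l ≠ 0)
    (hE : E.all (fun e => Nat.beq e (l - 1)) = true) : exB p l d E x = true := by
  rw [exB, Bool.or_eq_true]
  right
  rw [List.all_eq_true]
  intro e he
  have h3 : e = l - 1 := Nat.eq_of_beq_eq_true (List.all_eq_true.1 hE e he)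
  subst h3
  by_cases hx : x = d
  · subst hx
    rw [Bool.or_eq_true]
    right
    have h4 : x % l ≠ (l - 1) % l := by
      intro h
      apply h2
      have h5 : (x + 1) % l = (l - 1 + 1) % l := Nat.ModEq.add_right 1 h
      rw [h5, Nat.sub_add_cancel hl.le, Nat.mod_self]
    have h6 : (x + (l - 1)) % l ≠ 0 := by
      intro h
      apply h1
      have h5 : (x + (l - 1) + 1) % l = (0 + 1) % l := Nat.ModEq.add_right 1 h
      rw [zero_add, Nat.mod_eq_of_lt hl, show x + (l - 1) + 1 = x + l by omega, Nat.add_mod_right] at h5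
      exact h5
    rw [beq_false h4, beq_false h6]
    rfl
  · rw [Bool.or_eq_true]
    left
    rw [beq_false hx, Nat.beq_refl]
    rfl

/-- **The sieve.** -/
theorem good_of_invSieve {S : Type u} [Group S] (h : Hyp S) [Finite S] {p : ℕ} (hp : p.Prime) (hp2 : p ≠ 2)
    {α : IrrCharacter S} (hα : Nt α) (hαi : AutInv (α : S → ℂ)) (hαp : ¬ p ∣ charDegree (α : S → ℂ))
    {N : ℕ} (hN : Nat.card S = N) (F : List (ℕ × ℕ)) (a : ℕ) (hF : val F * p ^ a = N) (hFp : ∀ x ∈ F, x.1.Prime)
    (hFe : exact F (val F) = true) (ls : List (ℕ × List ℕ))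
    (hls : ∀ x ∈ ls, x.1.Prime ∧ x.1 ≠ 2 ∧ x.1 ∣ N ∧ ¬ x.1 ^ 2 ∣ N)
    (hes : ∀ x ∈ ls, ∀ [Fact x.1.Prime], ∀ K : Blk x.1 S, K.e ∈ x.2)
    (hc : allD (invT p F ls) F 1 = true) : H687.Good p S := by
  by_contra hng
  obtain ⟨d, hd⟩ : ∃ d, charDegree (α : S → ℂ) = d := ⟨_, rfl⟩
  rw [hd] at hαp
  have hdF : d ∣ val F := by
    have h1 : d ∣ N := by rw [← hd, ← hN]; exact Blocks.Knorr.charDegree_dvd α.2
    rw [← hF] at h1
    exact ((Nat.Coprime.pow_right a ((Nat.Prime.coprime_iff_not_dvd hp).2 hαp).symm)).dvd_of_dvd_mul_right h1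
  have h1 := allD_dvd F hFp hFe hc hdF
  rw [invT, Bool.or_eq_true] at h1
  rcases h1 with h1 | h1
  · have h2 : d ≤ 1 := Nat.le_of_ble_eq_true h1
    have h3 := h.deg_ne_one hα
    have h4 := deg_ne_zero α
    rw [hd] at h3 h4
    omega
  · obtain ⟨y, hy, h2⟩ := List.any_eq_true.1 h1
    obtain ⟨hl, hl2, hlN, hlN2⟩ := hls y hy
    have : Fact y.1.Prime := ⟨hl⟩
    obtain ⟨K⟩ := exists_blk y.1 hl2 S (hN ▸ hlN) (hN ▸ hlN2)
    rw [Bool.and_eq_true, Bool.and_eq_true, Bool.or_eq_true] at h2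
    obtain ⟨h3, h4, h5⟩ := h2
    have h3' : d % y.1 ≠ 1 := by
      intro h6; rw [h6] at h3; simp at h3
    have h4' : (d + 1) % y.1 ≠ 0 := by
      intro h6; rw [h6] at h4; simp at h4
    have e1 : ∀ {m a b : ℕ}, (a : ℤ) ≡ b [ZMOD m] → a % m = b % m := fun h => (Int.natCast_modEq_iff.1 h)
    rcases of_inv K h hl2 hp hp2 hng hα hαi (by rw [hd]; exact hαp) with h6 | h6 | ⟨x, hx⟩
    · rw [hd] at h6
      apply h3'
      have := e1 (m := y.1) (a := d) (b := 1) (by simpa using h6)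
      rwa [Nat.mod_eq_of_lt hl.one_lt] at this
    · rw [hd] at h6
      apply h4'
      have h7 : ((d + 1 : ℕ) : ℤ) ≡ ((0 : ℕ) : ℤ) [ZMOD y.1] := by
        have := h6.add_right (1 : ℤ)
        simpa using this
      have := e1 h7
      simpa using this
    · rw [hd] at hx
      refine exB_sound hp.one_lt (hes y hy K) ?_ hx
      rcases h5 with h5 | h5
      · exact exB_of_all hl.one_lt h3' h4' h5
      · have h6 := allD_dvd F hFp hFe h5 (hx.1.trans hdF)
        rw [Bool.or_eq_true] at h6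
        rcases h6 with h6 | h6
        · rw [Nat.mod_eq_zero_of_dvd hx.1] at h6
          simp at h6
        · exact h6

end Cfsg.Agent.H34.SporTool

private theorem dce_0c72513a586a : _root_.True := by
  try have : _root_.True := by simp only [_root_.Cfsg.Agent.H34.SporTool.invT.eq_1]
  exact _root_.True.intro
end

-- part: H34/SporCo23
section
set_option linter.all false
open scoped Cfsg.Agent.FastGrp

-- part: H34/SporJ2Row
section
/-!
# S4834: `J2` and `Suz`, `p = 5` (helper34)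
-/

set_option autoImplicit false

namespace Cfsg.Agent.H34.SporJ2Row

open Cfsg Cfsg.Agent.H635.Spor Cfsg.Agent.H34.SporTool Cfsg.Agent.H34.SporHyp Cfsg.Agent

universe u v

theorem hyp_of_equiv {S : Type u} {T : Type v} [Group S] [Group T] (e : S ≃* T) (h : Hyp S) : Hyp T where
  fin := by
    have := h.fin
    exact Finite.of_equiv S e.toEquiv
  simple := by
    have := h.simple
    exact e.symm.isSimpleGroup
  np := by rw [← Nat.card_congr e.toEquiv]; exact h.np
  out := by rw [← card_out_congr e]; exact h.out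

theorem good_seven {S : Type u} [Group S] (h : Hyp S) [Finite S] (he : ∀ [Fact (Nat.Prime 7)], ∀ K : Blk 7 S, K.e = 6)
    (h1 : 7 ∣ Nat.card S) (h2 : ¬ 7 ^ 2 ∣ Nat.card S) {d : ℕ} (hd1 : d ≠ 1) (hd5 : ¬ 5 ∣ d) (hd7 : 7 ∣ d)
    (hχ : ∃ χ : IrrCharacter S, charDegree (χ : S → ℂ) = d) : H687.Good 5 S := by
  have : Fact (Nat.Prime 7) := ⟨by norm_num⟩
  obtain ⟨K⟩ := exists_blk 7 (by norm_num) S h1 h2
  obtain ⟨χ, hχ⟩ := hχ
  have ht : K.t = 1 := by
    have h3 := K.ht
    rw [he K] at h3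
    omega
  refine good_of_t_one K h (by norm_num) ht (by norm_num) (by norm_num) (χ := χ) ?_ (by rw [hχ]; exact hd5)
    (by rw [hχ]; exact hd7)
  intro h3
  apply hd1
  rw [← hχ]
  apply H687.charDegree_of_eq
  rw [h3]
  simp

/-- **`J2`** -/
theorem good_J2 {S : Type u} [Group S] [IsSimpleGroup S] (h : Spor.IsoJ2 S) : H687.Good 5 S := by
  have hS : Hyp S := hyp_spor (by unfold IsSporadicGroup; tauto)
  have hc := NotCT.Orders.j2 h
  obtain ⟨e⟩ := h
  have hT := hyp_of_equiv e hS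
  have := hT.fin
  refine H687.Good.of_equiv e ?_
  have hc' := (Nat.card_congr e.toEquiv).symm.trans hc
  exact good_seven hT (fun K => SporJ2.j2_e K) (by rw [hc']; norm_num) (by rw [hc']; norm_num) (by norm_num)
    (by norm_num) (by norm_num) SporJ2.exists_63

/-- **`Suz`** -/
theorem good_Suz {S : Type u} [Group S] [IsSimpleGroup S] (h : Spor.IsoSuz S) : H687.Good 5 S := by
  have hS : Hyp S := hyp_spor (by unfold IsSporadicGroup; tauto)
  have hc := NotCT.Orders.suz h
  obtain ⟨e⟩ := h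
  have hT := hyp_of_equiv e hS
  have := hT.fin
  refine H687.Good.of_equiv e ?_
  have hc' := (Nat.card_congr e.toEquiv).symm.trans hc
  exact good_seven hT (fun K => SporJ2.suz_e K) (by rw [hc']; norm_num) (by rw [hc']; norm_num) (by norm_num)
    (by norm_num) (by norm_num) SporJ2.exists_1001

end Cfsg.Agent.H34.SporJ2Row
end

-- part: H34/SporFull
section
/-!
# S4834: one irreducible character of full `q`-degree (helper34)

`good_of_full` : `Out S = 1`, one irreducible character of degree prime to `p` divisible by the full power of a prime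
`q`; then `Good p S`.
-/

set_option autoImplicit false

namespace Cfsg.Agent.H34.SporFull

open Cfsg Cfsg.Agent.H635.Spor Cfsg.Agent.H34.SporTool Cfsg.Agent.H34.SporHyp Cfsg.Agent.H34.SporJ2Row Cfsg.Agent

universe u

theorem good_of_full {S : Type u} [Group S] (h : Hyp S) (hO : Nat.card (Cfsg.Out S) = 1) {p : ℕ} (hp : p.Prime)
    (hp2 : p ≠ 2) {χ : IrrCharacter S} (hχ : Nt χ) (hχp : ¬ p ∣ charDegree (χ : S → ℂ)) {q a : ℕ} (hq : q.Prime)
    (hqS : q ∣ Nat.card S) (ha : ¬ q ^ (a + 1) ∣ Nat.card S) (hqa : q ^ a ∣ charDegree (χ : S → ℂ)) :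
    H687.Good p S := by
  have := h.fin
  by_contra hng
  obtain ⟨d, hd⟩ := flat_of_not_good h hO hp hp2 hng
  apply hd.not_full hp.one_lt hq hqS ha
  rw [← hd χ hχ hχp]
  exact hqa

end Cfsg.Agent.H34.SporFull
end

-- part: H34/SporCo23
section
/-!
# S4834: `Co2` and `Co3`, `p = 5` (helper34)

The irreducible character of degree 23.
-/

set_option autoImplicit false

namespace Cfsg.Agent.H34.SporCo23

open Cfsg Cfsg.Agent.H635.Spor Cfsg.Agent.H34.SporTool Cfsg.Agent.H34.SporHyp Cfsg.Agent.H34.SporJ2Row Cfsg.Agent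
open Cfsg.Agent.H34.SporFull Cfsg.Agent.H419.LeechFix Cfsg.Agent.H419.LeechIrr
open Cfsg.Spor (Co2 Co3)

universe u

theorem deg_of_lchi {G : Type*} [Group G] {f : G →* Co0} {μ : IrrCharacter G}
    (hμ : ∀ g, lchi f g = 1 + (μ : G → ℂ) g) : charDegree (μ : G → ℂ) = 23 := by
  have h1 := hμ 1
  have h6 : lchi f 1 = 24 := by
    rw [lchi, map_one, Cfsg.Agent.SigZeroCo2.Lin.tr8_one]
    norm_num
  rw [h6] at h1
  apply H687.charDegree_of_eq
  push_cast
  linear_combination -h1

theorem exists_irr_Co3 : ∃ χ : IrrCharacter Co3, charDegree (χ : Co3 → ℂ) = 23 := by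
  obtain ⟨hs, hcard⟩ := Cfsg.Agent.OddHalf.D8.RowCo3.card_of (K := Spor.Co3) ⟨MulEquiv.refl _⟩
  have hfin : Finite Spor.Co3 := Nat.finite_of_card_ne_zero (by rw [hcard]; norm_num)
  obtain ⟨μ, hμ⟩ := irr23 Cfsg.Agent.H419.Spor.Co3.inc Cfsg.Agent.H419.Spor.Co3.inc_injective
    (by rw [hcard]; norm_num) Cfsg.Agent.H419.Spor.Co3.k ⟨Cfsg.Agent.H419.Spor.Co3.y14, fun h => by
      have := Cfsg.Agent.H419.Spor.Co3.order
      rw [h, orderOf_one] at this
      norm_num at this⟩ Cfsg.Agent.H419.Spor.Co3.inc_k (w := Spor.leechV) (fun h => by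
        have := congrArg (fun v : leechLattice => (v : GolayPt → ℤ) none) h
        exact absurd this (by decide)) Cfsg.Agent.H419.Spor.Co3.inc_fix
  exact ⟨μ, deg_of_lchi hμ⟩

theorem exists_irr_Co2 : ∃ χ : IrrCharacter Co2, charDegree (χ : Co2 → ℂ) = 23 := by
  have hs : IsSimpleGroup Spor.Co2 := Cfsg.Agent.Schreier.CoTwoStab.isSimpleGroup
  have hcard : Nat.card Spor.Co2 = 42305421312000 := Cfsg.Agent.BiChar.Small.card_Co2
  have hfin : Finite Spor.Co2 := Nat.finite_of_card_ne_zero (by rw [hcard]; norm_num)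
  obtain ⟨μ, hμ⟩ := irr23 Cfsg.Agent.H419.Spor.Co2.inc Cfsg.Agent.H419.Spor.Co2.inc_injective
    (by rw [hcard]; norm_num) Cfsg.Agent.H419.Spor.Co2.k ⟨Cfsg.Agent.H419.Spor.Co3.y14, fun h => by
      have := Cfsg.Agent.H419.Spor.Co2.order
      rw [h, orderOf_one] at this
      norm_num at this⟩ Cfsg.Agent.H419.Spor.Co2.inc_k (w := Cfsg.Agent.H419.Spor.Co2.leechW) (fun h => by
        have := congrArg (fun v : leechLattice => (v : GolayPt → ℤ) none) h
        exact absurd this (by decide)) Cfsg.Agent.H419.Spor.Co2.inc_fix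
  exact ⟨μ, deg_of_lchi hμ⟩

/-- **`Co2`** -/
theorem good_Co2 {S : Type u} [Group S] [IsSimpleGroup S] (h : Spor.IsoCo2 S) : H687.Good 5 S := by
  have hS : Hyp S := hyp_spor (by unfold IsSporadicGroup; tauto)
  have hc := NotCT.Orders.co2 h
  obtain ⟨e⟩ := h
  have hT := hyp_of_equiv e hS
  have := hT.fin
  refine H687.Good.of_equiv e ?_
  rw [Nat.card_congr e.toEquiv] at hc
  obtain ⟨χ, hχ⟩ := exists_irr_Co2
  refine good_of_full hT S2070.result (q := 23) (a := 1) (by norm_num) (by norm_num) (χ := χ)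
    (by
      intro h
      rw [h, H687.charDegree_of_eq (n := 1) (by simp)] at hχ
      norm_num at hχ) (by rw [hχ]; norm_num) (by norm_num)
    (by rw [hc]; norm_num) (by rw [hc]; norm_num) (by rw [hχ]; norm_num)

/-- **`Co3`** -/
theorem good_Co3 {S : Type u} [Group S] [IsSimpleGroup S] (h : Spor.IsoCo3 S) : H687.Good 5 S := by
  have hS : Hyp S := hyp_spor (by unfold IsSporadicGroup; tauto)
  have hc := NotCT.Orders.co3 h
  obtain ⟨e⟩ := h
  have hT := hyp_of_equiv e hS
  have := hT.fin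
  refine H687.Good.of_equiv e ?_
  rw [Nat.card_congr e.toEquiv] at hc
  obtain ⟨χ, hχ⟩ := exists_irr_Co3
  refine good_of_full hT S2071.result (q := 23) (a := 1) (by norm_num) (by norm_num) (χ := χ)
    (by
      intro h
      rw [h, H687.charDegree_of_eq (n := 1) (by simp)] at hχ
      norm_num at hχ) (by rw [hχ]; norm_num) (by norm_num)
    (by rw [hc]; norm_num) (by rw [hc]; norm_num) (by rw [hχ]; norm_num)

end Cfsg.Agent.H34.SporCo23
end
end
end
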